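/-
The decomposition of five virtual characters with the inner products that occur in Brauer's
analysis of an involution centralizer `GL(2,3)`.
-/
import Cfsg.Agent.Lib.Coherence.Virtual

set_option autoImplicit false

namespace Cfsg.Agent.GL23Cent

open Cfsg Cfsg.Agent.Char Cfsg.Agent.Coherence
open scoped ComplexConjugate

variable {G : Type*} [Group G] [Fintype G]

theorem ip_swap {φ ψ : G → ℂ} {n : ℤ} (h : classInner φ ψ = n) : classInner ψ φ = n := by
  rw [← classInner_conj_symm, h, map_intCast]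

theorem norm_nonneg {θ : G → ℂ} {n : ℤ} (h : classInner θ θ = n) : 0 ≤ n := by
  have := classInner_self_re_nonneg θ
  rw [h, Complex.intCast_re] at this
  exact_mod_cast this

theorem signed_norm {S : G → ℂ} (h : IsSignedIrr G S) : classInner S S = 1 :=
  (classInner_signed h h).1

theorem signed_one : IsSignedIrr G (1 : G → ℂ) := Or.inl isIrrCharacter_one

theorem one_norm : classInner (1 : G → ℂ) 1 = 1 := signed_norm signed_one

theorem signed_degree {S : G → ℂ} (h : IsSignedIrr G S) : ∃ d : ℤ, d ≠ 0 ∧ S 1 = d := by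
  rcases h with h | h
  · obtain ⟨n, hn, he⟩ := IsIrrCharacter.exists_degree h
    exact ⟨n, by exact_mod_cast hn.ne', by rw [he]; norm_num⟩
  · obtain ⟨n, hn, he⟩ := IsIrrCharacter.exists_degree h
    refine ⟨-(n : ℤ), by simpa using hn.ne', ?_⟩
    simp only [Pi.neg_apply] at he
    rw [neg_eq_iff_eq_neg.mp he]; norm_num

/-- A signed irreducible character orthogonal to `S` and `T` in sum is orthogonal to each. -/
theorem pair_zero {U V S : G → ℂ} (hU : IsSignedIrr G U) (hV : IsSignedIrr G V)
    (hS : IsSignedIrr G S) (hUV : classInner U V = 0)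
    (h : classInner U S + classInner V S = 0) : classInner U S = 0 ∧ classInner V S = 0 := by
  rcases (classInner_signed hU hS).2 with h1 | ⟨e, h1⟩ | ⟨e, h1⟩
  · exact ⟨h1, by rwa [h1, zero_add] at h⟩
  · exfalso
    have h2 : classInner V S = 0 := by rw [e, ← classInner_conj_symm, hUV, map_zero]
    rw [h1, h2, add_zero] at h; exact one_ne_zero h
  · exfalso
    have h2 : classInner V S = 0 := by
      rw [e, classInner_neg_right, ← classInner_conj_symm, hUV, map_zero, neg_zero]
    rw [h1, h2, add_zero] at h; norm_num at h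

theorem norm_two_split {θ : G → ℂ} (h : IsGeneralizedCharacter G θ) (h2 : classInner θ θ = 2) :
    ∃ U V : G → ℂ, IsSignedIrr G U ∧ IsSignedIrr G V ∧ classInner U V = 0 ∧ θ = U + V := by
  classical
  have : Fintype (IrrCharacter G) := Fintype.ofFinite _
  obtain ⟨c, -, hc, hn⟩ := gc_eq_sum h
  have hsum : ∑ χ : IrrCharacter G, c χ ^ 2 = 2 := by
    have := hn.symm.trans h2; exact_mod_cast this
  obtain ⟨χ, -, hχ⟩ := Finset.exists_ne_zero_of_sum_ne_zero (hsum.trans_ne (by norm_num))
  have hle : c χ ^ 2 ≤ 2 := hsum ▸ Finset.single_le_sum (f := fun ψ => c ψ ^ 2)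
    (fun _ _ => sq_nonneg _) (Finset.mem_univ χ)
  have h0 : c χ ≠ 0 := fun e => hχ (by simp [e])
  have h1 : c χ = 1 ∨ c χ = -1 := by
    have : -1 ≤ c χ ∧ c χ ≤ 1 := ⟨by nlinarith, by nlinarith⟩
    omega
  have hU : ∃ U : G → ℂ, IsSignedIrr G U ∧ classInner θ U = 1 := by
    rcases h1 with e | e
    · exact ⟨χ, Or.inl χ.2, by rw [hc, e, Int.cast_one]⟩
    · exact ⟨-(χ : G → ℂ), Or.inr (by simpa using χ.2),
        by rw [classInner_neg_right, hc, e]; norm_num⟩
  obtain ⟨U, hU, hθU⟩ := hU
  have hUθ : classInner U θ = 1 := by rw [← classInner_conj_symm, hθU, map_one]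
  refine ⟨U, θ - U, hU, gc_norm_one (isGC_sub h (isGC_signed hU)) ?_, ?_, by simp⟩
  · simp only [classInner_sub_left, classInner_sub_right, h2, hθU, hUθ, signed_norm hU]
    norm_num
  · rw [classInner_sub_right, hUθ, signed_norm hU, sub_self]

/-- The five virtual characters. -/
structure Five (G : Type*) [Group G] [Fintype G] where
  A1 : G → ℂ
  B1 : G → ℂ
  B2 : G → ℂ
  A5 : G → ℂ
  A6 : G → ℂ
  gA1 : IsGeneralizedCharacter G A1
  gB1 : IsGeneralizedCharacter G B1
  gB2 : IsGeneralizedCharacter G B2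
  gA5 : IsGeneralizedCharacter G A5
  gA6 : IsGeneralizedCharacter G A6
  nA1 : classInner A1 A1 = 4
  nB1 : classInner B1 B1 = 2
  nB2 : classInner B2 B2 = 2
  nA5 : classInner A5 A5 = 3
  nA6 : classInner A6 A6 = 3
  i21 : classInner B2 B1 = 1
  i51 : classInner A5 B1 = 1
  i52 : classInner A5 B2 = 1
  i61 : classInner A6 B1 = 1
  i62 : classInner A6 B2 = 1
  i65 : classInner A6 A5 = 1
  i11 : classInner A1 B1 = -1
  i12 : classInner A1 B2 = 0
  i15 : classInner A1 A5 = 1
  i16 : classInner A1 A6 = 1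
  oA1 : classInner A1 1 = 1
  oB1 : classInner B1 1 = 0
  oB2 : classInner B2 1 = 0
  oA5 : classInner A5 1 = 1
  oA6 : classInner A6 1 = 0
  zB1 : B1 1 = 0
  zB2 : B2 1 = 0
  zA5 : A5 1 = 0
  zA6 : A6 1 = 0

/-- Inner products of a constituent with the five functions. -/
def Five.Profile (d : Five G) (S : G → ℂ) (a1 b1 b2 a5 a6 : ℤ) : Prop :=
  IsSignedIrr G S ∧ classInner S 1 = 0 ∧ classInner S d.A1 = a1 ∧ classInner S d.B1 = b1 ∧
    classInner S d.B2 = b2 ∧ classInner S d.A5 = a5 ∧ classInner S d.A6 = a6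

theorem Five.decompose (d : Five G) :
    ∃ R Y U V : G → ℂ, d.Profile R 0 1 1 1 1 ∧ d.Profile Y 0 0 0 1 0 ∧
      d.Profile U 1 0 0 0 1 ∧ d.Profile V 0 0 0 0 1 ∧ d.A5 = 1 + R + Y ∧ d.A6 = R + U + V := by
  obtain ⟨R₀, P₀, hR₀, hP₀, hRP₀, hB1₀⟩ := norm_two_split d.gB1 d.nB1
  -- the constituent common to `B1` and `B2`
  obtain ⟨R, P, hR, hP, hRP, hB1, hB2R, hB2P⟩ : ∃ R P : G → ℂ, IsSignedIrr G R ∧ IsSignedIrr G P ∧
      classInner R P = 0 ∧ d.B1 = R + P ∧ classInner d.B2 R = 1 ∧ classInner d.B2 P = 0 := by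
    obtain ⟨r, hr⟩ := classInner_gc_int d.gB2 (isGC_signed hR₀)
    obtain ⟨p, hp⟩ := classInner_gc_int d.gB2 (isGC_signed hP₀)
    have hsum : r + p = 1 := by
      have := d.i21
      rw [hB1₀, classInner_add_right, hr, hp] at this
      exact_mod_cast this
    have hn : 0 ≤ 2 - r ^ 2 - p ^ 2 := norm_nonneg (θ := d.B2 - (r : ℂ) • R₀ - (p : ℂ) • P₀) (by
      simp only [classInner_sub_left, classInner_sub_right, classInner_smul_left,
        classInner_smul_right, map_intCast, d.nB2, hr, hp, ip_swap hr, ip_swap hp,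
        signed_norm hR₀, signed_norm hP₀, hRP₀,
        show classInner P₀ R₀ = 0 by rw [← classInner_conj_symm, hRP₀, map_zero]]
      push_cast; ring)
    have hr1 : r = 0 ∨ r = 1 := by
      obtain rfl : p = 1 - r := by omega
      have : 0 ≤ r ∧ r ≤ 1 := ⟨by nlinarith, by nlinarith⟩
      omega
    rcases hr1 with rfl | rfl
    · obtain rfl : p = 1 := by omega
      exact ⟨P₀, R₀, hP₀, hR₀, by rw [← classInner_conj_symm, hRP₀, map_zero],
        hB1₀.trans (add_comm _ _), by simpa using hp, by simpa using hr⟩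
    · obtain rfl : p = 0 := by omega
      exact ⟨R₀, P₀, hR₀, hP₀, hRP₀, hB1₀, by simpa using hr, by simpa using hp⟩
  have hPR : classInner P R = 0 := by rw [← classInner_conj_symm, hRP, map_zero]
  have hRB2 : classInner R d.B2 = 1 := by rw [← classInner_conj_symm, hB2R, map_one]
  have hPB2 : classInner P d.B2 = 0 := by rw [← classInner_conj_symm, hB2P, map_zero]
  let Q := d.B2 - R
  have hB2 : d.B2 = R + Q := by simp [Q]
  have hQ : IsSignedIrr G Q := gc_norm_one (isGC_sub d.gB2 (isGC_signed hR)) (by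
    simp only [Q, classInner_sub_left, classInner_sub_right, d.nB2, hB2R, hRB2, signed_norm hR]
    norm_num)
  have hRQ : classInner R Q = 0 := by
    simp only [Q, classInner_sub_right, hRB2, signed_norm hR, sub_self]
  have hPQ : classInner P Q = 0 := by
    simp only [Q, classInner_sub_right, hPB2, hPR, sub_self]
  have hQR : classInner Q R = 0 := by rw [← classInner_conj_symm, hRQ, map_zero]
  have hQP : classInner Q P = 0 := by rw [← classInner_conj_symm, hPQ, map_zero]
  have hR1 : classInner R 1 = 0 ∧ classInner P 1 = 0 := pair_zero hR hP signed_one hRP (by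
    rw [← classInner_add_left, ← hB1, d.oB1])
  have hQ1 : classInner Q 1 = 0 := by
    simp only [Q, classInner_sub_left, d.oB2, hR1.1, sub_zero]
  have h1R : classInner 1 R = 0 := by rw [← classInner_conj_symm, hR1.1, map_zero]
  have h1P : classInner 1 P = 0 := by rw [← classInner_conj_symm, hR1.2, map_zero]
  have h1Q : classInner 1 Q = 0 := by rw [← classInner_conj_symm, hQ1, map_zero]
  have hP1 : P 1 = -R 1 := by
    have := d.zB1
    rw [hB1] at this; exact eq_neg_of_add_eq_zero_right this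
  have hQ1' : Q 1 = -R 1 := by simp [Q, d.zB2]
  obtain ⟨D, hD, hRD⟩ := signed_degree hR
  -- `A5`
  obtain ⟨Y, hY, hA5, hY1, hYR, hYP, hYQ⟩ : ∃ Y : G → ℂ, IsSignedIrr G Y ∧ d.A5 = 1 + R + Y ∧
      classInner Y 1 = 0 ∧ classInner Y R = 0 ∧ classInner Y P = 0 ∧ classInner Y Q = 0 := by
    obtain ⟨r, hr⟩ := classInner_gc_int d.gA5 (isGC_signed hR)
    have hp : classInner d.A5 P = ((1 - r : ℤ) : ℂ) := by
      have := d.i51
      rw [hB1, classInner_add_right, hr] at this
      push_cast; linear_combination this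
    have hq : classInner d.A5 Q = ((1 - r : ℤ) : ℂ) := by
      simp only [Q, classInner_sub_right, d.i52, hr]; push_cast; rfl
    let θ := d.A5 - 1 - (r : ℂ) • R - ((1 - r : ℤ) : ℂ) • P - ((1 - r : ℤ) : ℂ) • Q
    have hθg : IsGeneralizedCharacter G θ := by
      refine isGC_sub (isGC_sub (isGC_sub (isGC_sub d.gA5 (isGC_signed signed_one)) ?_) ?_) ?_
      all_goals rw [Int.cast_smul_eq_zsmul]
      · exact isGC_zsmul (isGC_signed hR) _
      · exact isGC_zsmul (isGC_signed hP) _
      · exact isGC_zsmul (isGC_signed hQ) _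
    have hθ : classInner θ θ = ((2 - r ^ 2 - 2 * (1 - r) ^ 2 : ℤ) : ℂ) := by
      simp only [θ, classInner_sub_left, classInner_sub_right, classInner_smul_left,
        classInner_smul_right, map_intCast, d.nA5, d.oA5, hr, hp, hq, ip_swap hr, ip_swap hp,
        ip_swap hq, show classInner 1 d.A5 = 1 by rw [← classInner_conj_symm, d.oA5, map_one],
        signed_norm hR, signed_norm hP, signed_norm hQ, one_norm, hRP, hPR, hRQ, hQR, hPQ, hQP,
        hR1.1, hR1.2, hQ1, h1R, h1P, h1Q]
      push_cast; ring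
    have hn := norm_nonneg hθ
    have hr01 : r = 0 ∨ r = 1 := by
      have : 0 ≤ r ∧ r ≤ 1 := ⟨by nlinarith, by nlinarith⟩
      omega
    rcases hr01 with rfl | rfl
    · exfalso
      have h0 : θ = 0 := classInner_self_eq_zero.mp (by rw [hθ]; norm_num)
      have := congrFun h0 1
      simp [θ, d.zA5, hP1, hQ1', hRD] at this
      have h' : (-1 + 2 * D : ℤ) = 0 := by
        have : ((-1 + 2 * D : ℤ) : ℂ) = 0 := by push_cast; linear_combination this
        exact_mod_cast this
      omega
    · have hYeq : θ = d.A5 - 1 - R := by simp [θ]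
      refine ⟨θ, gc_norm_one hθg (by rw [hθ]; norm_num), by rw [hYeq]; abel, ?_, ?_, ?_, ?_⟩
      all_goals rw [hYeq]; simp only [classInner_sub_left]
      · rw [d.oA5, one_norm, hR1.1]; ring
      · rw [hr, h1R, signed_norm hR]; norm_num
      · rw [hp, h1P, hRP]; norm_num
      · rw [hq, h1Q, hRQ]; norm_num
  have h1Y : classInner 1 Y = 0 := by rw [← classInner_conj_symm, hY1, map_zero]
  have hRY : classInner R Y = 0 := by rw [← classInner_conj_symm, hYR, map_zero]
  have hPY : classInner P Y = 0 := by rw [← classInner_conj_symm, hYP, map_zero]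
  have hQY : classInner Q Y = 0 := by rw [← classInner_conj_symm, hYQ, map_zero]
  have hY1' : Y 1 = -1 - R 1 := by
    have := d.zA5
    rw [hA5] at this
    simp only [Pi.add_apply, Pi.one_apply] at this
    linear_combination this
  -- `A6`
  obtain ⟨U₀, V₀, hU₀, hV₀, hUV₀, hA6₀, hW1, hWR, hWP, hWQ, hWY⟩ :
      ∃ U V : G → ℂ, IsSignedIrr G U ∧ IsSignedIrr G V ∧ classInner U V = 0 ∧ d.A6 = R + U + V ∧
      classInner U 1 + classInner V 1 = 0 ∧ classInner U R + classInner V R = 0 ∧
      classInner U P + classInner V P = 0 ∧ classInner U Q + classInner V Q = 0 ∧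
      classInner U Y + classInner V Y = 0 := by
    obtain ⟨r, hr⟩ := classInner_gc_int d.gA6 (isGC_signed hR)
    have hp : classInner d.A6 P = ((1 - r : ℤ) : ℂ) := by
      have := d.i61
      rw [hB1, classInner_add_right, hr] at this
      push_cast; linear_combination this
    have hq : classInner d.A6 Q = ((1 - r : ℤ) : ℂ) := by
      simp only [Q, classInner_sub_right, d.i62, hr]; push_cast; rfl
    let θ := d.A6 - (r : ℂ) • R - ((1 - r : ℤ) : ℂ) • P - ((1 - r : ℤ) : ℂ) • Q
    have hθg : IsGeneralizedCharacter G θ := by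
      refine isGC_sub (isGC_sub (isGC_sub d.gA6 ?_) ?_) ?_
      all_goals rw [Int.cast_smul_eq_zsmul]
      · exact isGC_zsmul (isGC_signed hR) _
      · exact isGC_zsmul (isGC_signed hP) _
      · exact isGC_zsmul (isGC_signed hQ) _
    have hθ : classInner θ θ = ((3 - r ^ 2 - 2 * (1 - r) ^ 2 : ℤ) : ℂ) := by
      simp only [θ, classInner_sub_left, classInner_sub_right, classInner_smul_left,
        classInner_smul_right, map_intCast, d.nA6, hr, hp, hq, ip_swap hr, ip_swap hp,
        ip_swap hq, signed_norm hR, signed_norm hP, signed_norm hQ, hRP, hPR, hRQ, hQR, hPQ, hQP]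
      push_cast; ring
    have hn := norm_nonneg hθ
    have hA6Y : classInner d.A6 Y = ((1 - r : ℤ) : ℂ) := by
      have := d.i65
      rw [hA5, classInner_add_right, classInner_add_right, d.oA6, hr] at this
      push_cast; linear_combination this
    have hr01 : r = 0 ∨ r = 1 := by
      have : 0 ≤ r ∧ r ≤ 1 := ⟨by nlinarith, by nlinarith⟩
      omega
    rcases hr01 with rfl | rfl
    · exfalso
      have hθY : classInner θ Y = 1 := by
        simp only [θ, classInner_sub_left, classInner_smul_left, hA6Y, hRY, hPY, hQY]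
        norm_num
      have hz : θ - Y = 0 := classInner_self_eq_zero.mp (by
        simp only [classInner_sub_left, classInner_sub_right, hθ, hθY, signed_norm hY,
          show classInner Y θ = 1 by rw [← classInner_conj_symm, hθY, map_one]]
        norm_num)
      have := congrFun hz 1
      simp [θ, d.zA6, hP1, hQ1', hY1', hRD] at this
      have h' : (3 * D + 1 : ℤ) = 0 := by
        have : ((3 * D + 1 : ℤ) : ℂ) = 0 := by push_cast; linear_combination this
        exact_mod_cast this
      omega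
    · have hWeq : θ = d.A6 - R := by simp [θ]
      obtain ⟨U, V, hU, hV, hUV, hW⟩ := norm_two_split hθg (by rw [hθ]; norm_num)
      refine ⟨U, V, hU, hV, hUV, ?_, ?_, ?_, ?_, ?_, ?_⟩
      · rw [add_assoc, ← hW, hWeq, add_sub_cancel]
      all_goals rw [← classInner_add_left, ← hW, hWeq, classInner_sub_left]
      · rw [d.oA6, hR1.1, sub_zero]
      · rw [hr, signed_norm hR]; norm_num
      · rw [hp, hRP]; norm_num
      · rw [hq, hRQ]; norm_num
      · rw [hA6Y, hRY]; norm_num
  obtain ⟨hU1, hV1⟩ := pair_zero hU₀ hV₀ signed_one hUV₀ hW1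
  obtain ⟨hUR, hVR⟩ := pair_zero hU₀ hV₀ hR hUV₀ hWR
  obtain ⟨hUP, hVP⟩ := pair_zero hU₀ hV₀ hP hUV₀ hWP
  obtain ⟨hUQ, hVQ⟩ := pair_zero hU₀ hV₀ hQ hUV₀ hWQ
  obtain ⟨hUY, hVY⟩ := pair_zero hU₀ hV₀ hY hUV₀ hWY
  have hRU : classInner R U₀ = 0 := by rw [← classInner_conj_symm, hUR, map_zero]
  have hRV : classInner R V₀ = 0 := by rw [← classInner_conj_symm, hVR, map_zero]
  have hVU₀ : classInner V₀ U₀ = 0 := by rw [← classInner_conj_symm, hUV₀, map_zero]
  -- `A1`
  obtain ⟨hRA1, hYA1, hUVA1⟩ : classInner R d.A1 = 0 ∧ classInner Y d.A1 = 0 ∧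
      ((classInner U₀ d.A1 = 1 ∧ classInner V₀ d.A1 = 0) ∨
        (classInner U₀ d.A1 = 0 ∧ classInner V₀ d.A1 = 1)) := by
    obtain ⟨r, hr⟩ := classInner_gc_int d.gA1 (isGC_signed hR)
    obtain ⟨u, hu⟩ := classInner_gc_int d.gA1 (isGC_signed hU₀)
    obtain ⟨v, hv⟩ := classInner_gc_int d.gA1 (isGC_signed hV₀)
    have hp : classInner d.A1 P = ((-1 - r : ℤ) : ℂ) := by
      have := d.i11
      rw [hB1, classInner_add_right, hr] at this
      push_cast; linear_combination this
    have hq : classInner d.A1 Q = ((-r : ℤ) : ℂ) := by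
      simp only [Q, classInner_sub_right, d.i12, hr]; push_cast; ring
    have hy : classInner d.A1 Y = ((-r : ℤ) : ℂ) := by
      have := d.i15
      rw [hA5, classInner_add_right, classInner_add_right, d.oA1, hr] at this
      push_cast; linear_combination this
    have hsum : r + u + v = 1 := by
      have := d.i16
      rw [hA6₀, classInner_add_right, classInner_add_right, hr, hu, hv] at this
      exact_mod_cast this
    let θ := d.A1 - 1 - (r : ℂ) • R - ((-1 - r : ℤ) : ℂ) • P - ((-r : ℤ) : ℂ) • Q -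
      ((-r : ℤ) : ℂ) • Y - (u : ℂ) • U₀ - (v : ℂ) • V₀
    have hθ : classInner θ θ = ((3 - r ^ 2 - (-1 - r) ^ 2 - 2 * r ^ 2 - u ^ 2 - v ^ 2 : ℤ) : ℂ) := by
      simp only [θ, classInner_sub_left, classInner_sub_right, classInner_smul_left,
        classInner_smul_right, map_intCast, d.nA1, d.oA1, hr, hp, hq, hy, hu, hv, ip_swap hr,
        ip_swap hp, ip_swap hq, ip_swap hy, ip_swap hu, ip_swap hv,
        show classInner 1 d.A1 = 1 by rw [← classInner_conj_symm, d.oA1, map_one],
        signed_norm hR, signed_norm hP, signed_norm hQ, signed_norm hY, signed_norm hU₀,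
        signed_norm hV₀, one_norm, hRP, hPR, hRQ, hQR, hPQ, hQP, hRY, hYR, hPY, hYP, hQY, hYQ,
        hR1.1, hR1.2, hQ1, h1R, h1P, h1Q, hY1, h1Y, hU1, hV1, hUR, hVR, hUP, hVP, hUQ, hVQ,
        hUY, hVY, hRU, hRV, hUV₀, hVU₀,
        show classInner 1 U₀ = 0 by rw [← classInner_conj_symm, hU1, map_zero],
        show classInner 1 V₀ = 0 by rw [← classInner_conj_symm, hV1, map_zero],
        show classInner P U₀ = 0 by rw [← classInner_conj_symm, hUP, map_zero],
        show classInner P V₀ = 0 by rw [← classInner_conj_symm, hVP, map_zero],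
        show classInner Q U₀ = 0 by rw [← classInner_conj_symm, hUQ, map_zero],
        show classInner Q V₀ = 0 by rw [← classInner_conj_symm, hVQ, map_zero],
        show classInner Y U₀ = 0 by rw [← classInner_conj_symm, hUY, map_zero],
        show classInner Y V₀ = 0 by rw [← classInner_conj_symm, hVY, map_zero]]
      push_cast; ring
    have hn := norm_nonneg hθ
    obtain rfl : v = 1 - r - u := by omega
    have hr0 : r = 0 := by
      have : -1 ≤ r ∧ r ≤ 0 := ⟨by nlinarith, by nlinarith⟩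
      rcases (show r = -1 ∨ r = 0 by omega) with rfl | rfl
      · exfalso; nlinarith [sq_nonneg (u - 1)]
      · rfl
    subst hr0
    have hu01 : u = 0 ∨ u = 1 := by
      have : 0 ≤ u ∧ u ≤ 1 := ⟨by nlinarith, by nlinarith⟩
      omega
    refine ⟨by simpa using ip_swap hr, by simpa using ip_swap hy, ?_⟩
    rcases hu01 with rfl | rfl
    · exact Or.inr ⟨by simpa using ip_swap hu, by simpa using ip_swap hv⟩
    · exact Or.inl ⟨by simpa using ip_swap hu, by simpa using ip_swap hv⟩
  have hPr : d.Profile R 0 1 1 1 1 := by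
    refine ⟨hR, hR1.1, by simpa using hRA1, ?_, by simpa using hRB2, ?_, ?_⟩
    · rw [hB1, classInner_add_right, signed_norm hR, hRP]; norm_num
    · rw [hA5, classInner_add_right, classInner_add_right, hR1.1, signed_norm hR, hRY]; norm_num
    · rw [hA6₀, classInner_add_right, classInner_add_right, signed_norm hR, hRU, hRV]; norm_num
  have hPy : d.Profile Y 0 0 0 1 0 := by
    refine ⟨hY, hY1, by simpa using hYA1, ?_, ?_, ?_, ?_⟩
    · rw [hB1, classInner_add_right, hYR, hYP]; norm_num
    · rw [hB2, classInner_add_right, hYR, hYQ]; norm_num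
    · rw [hA5, classInner_add_right, classInner_add_right, hY1, hYR, signed_norm hY]; norm_num
    · rw [hA6₀, classInner_add_right, classInner_add_right, hYR,
        show classInner Y U₀ = 0 by rw [← classInner_conj_symm, hUY, map_zero],
        show classInner Y V₀ = 0 by rw [← classInner_conj_symm, hVY, map_zero]]
      norm_num
  have hPuv : ∀ (X : G → ℂ) (a : ℤ), IsSignedIrr G X → classInner X 1 = 0 → classInner X R = 0 →
      classInner X P = 0 → classInner X Q = 0 → classInner X Y = 0 →
      classInner X U₀ + classInner X V₀ = 1 → classInner X d.A1 = (a : ℂ) →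
      d.Profile X a 0 0 0 1 := by
    intro X a hX x1 xR xP xQ xY xW xa
    refine ⟨hX, x1, xa, ?_, ?_, ?_, ?_⟩
    · rw [hB1, classInner_add_right, xR, xP]; norm_num
    · rw [hB2, classInner_add_right, xR, xQ]; norm_num
    · rw [hA5, classInner_add_right, classInner_add_right, x1, xR, xY]; norm_num
    · rw [hA6₀, classInner_add_right, classInner_add_right, xR, zero_add, xW]; norm_num
  have xU : classInner U₀ U₀ + classInner U₀ V₀ = 1 := by rw [signed_norm hU₀, hUV₀, add_zero]
  have xV : classInner V₀ U₀ + classInner V₀ V₀ = 1 := by rw [signed_norm hV₀, hVU₀, zero_add]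
  rcases hUVA1 with ⟨a, b⟩ | ⟨a, b⟩
  · exact ⟨R, Y, U₀, V₀, hPr, hPy, hPuv U₀ 1 hU₀ hU1 hUR hUP hUQ hUY xU (by simpa using a),
      hPuv V₀ 0 hV₀ hV1 hVR hVP hVQ hVY xV (by simpa using b), hA5, hA6₀⟩
  · exact ⟨R, Y, V₀, U₀, hPr, hPy, hPuv V₀ 1 hV₀ hV1 hVR hVP hVQ hVY xV (by simpa using b),
      hPuv U₀ 0 hU₀ hU1 hUR hUP hUQ hUY xU (by simpa using a), hA5,
      hA6₀.trans (add_right_comm _ _ _)⟩

end Cfsg.Agent.GL23Cent
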