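/-
Tables for `GL(2,3)`: its elements and a faithful two-dimensional representation over `ℤ√-2`.
-/
import Mathlib.Data.ZMod.Basic
import Mathlib.NumberTheory.Zsqrtd.Basic

set_option autoImplicit false

namespace Cfsg.Agent.GL23Cent

/-- A `2 × 2` matrix as a quadruple. -/
abbrev Q4 := ℕ × ℕ × ℕ × ℕ

/-- The elements of `GL(2,3)`. -/
def elsList : List Q4 := [(0,1,1,0), (0,1,1,1), (0,1,1,2), (0,1,2,0), (0,1,2,1), (0,1,2,2), (0,2,1,0), (0,2,1,1), (0,2,1,2), (0,2,2,0), (0,2,2,1), (0,2,2,2), (1,0,0,1), (1,0,0,2), (1,0,1,1), (1,0,1,2), (1,0,2,1), (1,0,2,2), (1,1,0,1), (1,1,0,2), (1,1,1,0), (1,1,1,2), (1,1,2,0), (1,1,2,1), (1,2,0,1), (1,2,0,2), (1,2,1,0), (1,2,1,1), (1,2,2,0), (1,2,2,2), (2,0,0,1), (2,0,0,2), (2,0,1,1), (2,0,1,2), (2,0,2,1), (2,0,2,2), (2,1,0,1), (2,1,0,2),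 (2,1,1,0), (2,1,1,1), (2,1,2,0), (2,1,2,2), (2,2,0,1), (2,2,0,2), (2,2,1,0), (2,2,1,2), (2,2,2,0), (2,2,2,1)]

/-- Index of an element, by code. -/
def idxList : List ℕ := [0, 0, 0, 0, 0, 0, 0, 0, 0, 0, 0, 0, 0, 1, 2, 3, 4, 5, 0, 0, 0, 6, 7, 8, 9, 10, 11, 0, 12, 13, 0, 14, 15, 0, 16, 17, 0, 18, 19, 20, 0, 21, 22, 23, 0, 0, 24, 25, 26, 27, 0, 28, 0, 29, 0, 30, 31, 0, 32, 33, 0, 34, 35, 0, 36, 37, 38, 39, 0, 40, 0, 41, 0, 42, 43, 44, 0, 45, 46, 47, 0]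

/-- The representation. -/
def repList : List ((ℤ × ℤ) × (ℤ × ℤ) × (ℤ × ℤ) × (ℤ × ℤ)) := [((-1,-1),(-2,0),(-1,1),(1,1)), ((1,1),(1,0),(0,-1),(-1,0)), ((0,0),(1,0),(1,0),(0,-1)), ((1,1),(2,0),(0,-1),(-1,-1)), ((0,0),(-1,0),(1,0),(1,0)), ((-1,-1),(-1,0),(-1,1),(0,1)), ((-1,-1),(-2,0),(0,1),(1,1)), ((1,1),(1,0),(1,-1),(0,-1)), ((0,0),(1,0),(-1,0),(-1,0)), ((1,1),(2,0),(1,-1),(-1,-1)), ((0,0),(-1,0),(-1,0),(0,1)), ((-1,-1),(-1,0),(0,1),(1,0)), ((1,0),(0,0),(0,0),(1,0)), ((-1,0),(0,0),(1,1),(1,0)), ((0,-1),(-1,-1),(-1,0),(-1,1)), ((1,-1),(-1,-1),(-2,0),(-1,1)), ((-1,1),(1,1),(1,0),(0,-1)), ((0,1),(1,1),(1,-1),(0,-1)), ((1,0),(1,-1),(-1,-1),(-2,0)), ((-1,0),(-1,1),(0,0),(1,0)), ((0,1),(1,0),(1,0),(0,0)), ((-1,1),(0,1),(2,0),(1,-1)), ((0,-1),(-1,0),(-1,1),(1,1)), ((1,-1),(0,-1),(-1,0),(-1,0)),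 ((-2,0),(-1,1),(1,1),(1,0)), ((2,0),(1,-1),(-1,-1),(-2,0)), ((1,0),(1,0),(-1,0),(0,0)), ((-1,0),(0,1),(1,0),(1,-1)), ((-1,0),(-1,0),(0,1),(1,1)), ((1,0),(0,-1),(0,-1),(-1,0)), ((1,0),(0,0),(-1,-1),(-1,0)), ((-1,0),(0,0),(0,0),(-1,0)), ((0,-1),(-1,-1),(-1,1),(0,1)), ((1,-1),(-1,-1),(-1,0),(0,1)), ((-1,1),(1,1),(2,0),(1,-1)), ((0,1),(1,1),(1,0),(1,-1)), ((-2,0),(-1,1),(1,1),(2,0)), ((2,0),(1,-1),(-1,-1),(-1,0)), ((1,0),(1,0),(0,-1),(-1,-1)), ((-1,0),(0,1),(0,1),(1,0)), ((-1,0),(-1,0),(1,0),(0,0)), ((1,0),(0,-1),(-1,0),(-1,1)), ((1,0),(1,-1),(0,0),(-1,0)), ((-1,0),(-1,1),(1,1),(2,0)), ((0,1),(1,0),(1,-1),(-1,-1)), ((-1,1),(0,1),(1,0),(1,0)), ((0,-1),(-1,0),(-1,0),(0,0)), ((1,-1),(0,-1),(-2,0),(-1,1))]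

/-- The determinant sign. -/
def epsList : List ℤ := [-1, -1, -1, 1, 1, 1, 1, 1, 1, -1, -1, -1, 1, -1, 1, -1, 1, -1, 1, -1, -1, 1, 1, -1, 1, -1, 1, -1, -1, 1, -1, 1, -1, 1, -1, 1, -1, 1, -1, 1, 1, -1, -1, 1, 1, -1, -1, 1]

/-- A Sylow `2`-subgroup. -/
def sylList : List ℕ := [2, 3, 6, 10, 12, 17, 20, 21, 25, 29, 31, 32, 36, 39, 46, 47]

def k1 : Fin 48 := 12
def kz : Fin 48 := 31

end Cfsg.Agent.GL23Cent
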