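/-
Finite computations in `GL(2,3)` needed for Brauer's order formula.
-/
import Cfsg.Agent.Lib.GL23Cent.Tables
import Mathlib.LinearAlgebra.Matrix.GeneralLinearGroup.Defs
import Mathlib.Data.Fintype.Pi

set_option autoImplicit false

namespace Cfsg.Agent.GL23Cent

/-- The coefficient ring. -/
abbrev ZS := ℤ√(-2)

/-- Entries of the `k`-th element. -/
def els (k : Fin 48) : Q4 := elsList.getD k.val (0, 0, 0, 0)

def qdet (q : Q4) : ℕ := (q.1 * q.2.2.2 + 2 * q.2.1 * q.2.2.1) % 3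

def qmul (p q : Q4) : Q4 :=
  ((p.1 * q.1 + p.2.1 * q.2.2.1) % 3, (p.1 * q.2.1 + p.2.1 * q.2.2.2) % 3,
    (p.2.2.1 * q.1 + p.2.2.2 * q.2.2.1) % 3, (p.2.2.1 * q.2.1 + p.2.2.2 * q.2.2.2) % 3)

/-- Index of a quadruple. -/
def idx (q : Q4) : Fin 48 :=
  Fin.ofNat 48 (idxList.getD (27 * q.1 + 9 * q.2.1 + 3 * q.2.2.1 + q.2.2.2) 0)

/-- Multiplication on indices. -/
def mul (k l : Fin 48) : Fin 48 := idx (qmul (els k) (els l))

def eps (k : Fin 48) : ZS := ⟨epsList.getD k.val 0, 0⟩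

def zOf (v : ℤ × ℤ) : ZS := ⟨v.1, v.2⟩

/-- Representing matrix. -/
def rep (k : Fin 48) : ZS × ZS × ZS × ZS :=
  let r := repList.getD k.val ((0, 0), (0, 0), (0, 0), (0, 0))
  (zOf r.1, zOf r.2.1, zOf r.2.2.1, zOf r.2.2.2)

def zmul (p q : ZS × ZS × ZS × ZS) : ZS × ZS × ZS × ZS :=
  (p.1 * q.1 + p.2.1 * q.2.2.1, p.1 * q.2.1 + p.2.1 * q.2.2.2,
    p.2.2.1 * q.1 + p.2.2.2 * q.2.2.1, p.2.2.1 * q.2.1 + p.2.2.2 * q.2.2.2)

def tau (k : Fin 48) : ZS := (rep k).1 + (rep k).2.2.2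

/-! Generalized characters. -/

def etau (k : Fin 48) : ZS := eps k * tau k
def three' (k : Fin 48) : ZS := tau k * etau k - 1
def three (k : Fin 48) : ZS := eps k * three' k
def two (k : Fin 48) : ZS := three k * three k - 1 - three k - three' k
def a1 (k : Fin 48) : ZS := 1 + eps k + tau k - tau k * two k
def b1 (k : Fin 48) : ZS := two k - tau k
def b2 (k : Fin 48) : ZS := two k - etau k
def a5 (k : Fin 48) : ZS := 1 + two k - three k
def a6 (k : Fin 48) : ZS := eps k + two k - three' k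
def hh (k : Fin 48) : ZS := 1 + two k + three' k
def one (_ : Fin 48) : ZS := 1

/-- Forty-eight times the inner product. -/
def ip (f g : Fin 48 → ZS) : ZS := ∑ k, f k * star (g k)

/-- Non-central involution. -/
def isRefl (k : Fin 48) : Prop := mul k k = k1 ∧ k ≠ k1 ∧ k ≠ kz

instance : DecidablePred isRefl := fun k => by unfold isRefl; infer_instance

/-- The special classes. -/
def inD (k : Fin 48) : Prop :=
  k = kz ∨ mul k k = kz ∨ mul k (mul k k) = kz ∨ mul (mul k k) (mul k k) = kz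

instance : DecidablePred inD := fun k => by unfold inD; infer_instance

/-- Number of ways of writing `x` as a product of two reflections. -/
def cnt (x : Fin 48) : ℕ :=
  (Finset.univ.filter fun p : Fin 48 => isRefl p ∧ isRefl (mul p x)).card

theorem idx_els : ∀ k, idx (els k) = k := by decide +kernel

theorem els_idx : ∀ a b c d : Fin 3, qdet (a.val, b.val, c.val, d.val) ≠ 0 →
    els (idx (a.val, b.val, c.val, d.val)) = (a.val, b.val, c.val, d.val) := by decide +kernel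

theorem els_lt : ∀ k, (els k).1 < 3 ∧ (els k).2.1 < 3 ∧ (els k).2.2.1 < 3 ∧ (els k).2.2.2 < 3 ∧
    qdet (els k) ≠ 0 := by decide +kernel

theorem els_k1 : els k1 = (1, 0, 0, 1) := by decide +kernel

theorem rep_k1 : rep k1 = (1, 0, 0, 1) := by decide +kernel
theorem eps_k1 : eps k1 = 1 := by decide +kernel
theorem rep_mul : ∀ k l, rep (mul k l) = zmul (rep k) (rep l) := by decide +kernel
theorem eps_mul : ∀ k l, eps (mul k l) = eps k * eps l := by decide +kernel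

theorem ips :
    ip b1 b1 = 96 ∧ ip b2 b2 = 96 ∧ ip a1 a1 = 192 ∧ ip a5 a5 = 144 ∧ ip a6 a6 = 144 ∧
    ip b2 b1 = 48 ∧ ip a5 b1 = 48 ∧ ip a5 b2 = 48 ∧ ip a6 b1 = 48 ∧ ip a6 b2 = 48 ∧
    ip a6 a5 = 48 ∧ ip a1 b1 = -48 ∧ ip a1 b2 = 0 ∧ ip a1 a5 = 48 ∧ ip a1 a6 = 48 ∧
    ip b1 one = 0 ∧ ip b2 one = 0 ∧ ip a1 one = 48 ∧ ip a5 one = 48 ∧ ip a6 one = 0 := by
  decide +kernel

theorem supported : ∀ k, ¬ inD k →
    a1 k = 0 ∧ b1 k = 0 ∧ b2 k = 0 ∧ a5 k = 0 ∧ a6 k = 0 := by decide +kernel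

theorem k1_not_inD : ¬ inD k1 := by decide +kernel

theorem ident_t : ∀ k, (if k = kz then 48 else 0 : ZS) =
    4 * a1 k + 6 * b1 k + 2 * b2 k - 3 * a5 k - 3 * a6 k := by decide +kernel

theorem ident_hh : ∀ k, 48 * hh k - (if k = k1 then 288 else 0 : ZS) =
    6 * (4 * a1 k + 6 * b1 k + 2 * b2 k - 3 * a5 k - 3 * a6 k) +
      12 * (a5 k + a6 k) + 24 * (a5 k - a6 k) := by decide +kernel

theorem sum_cnt : ∑ k, a5 k * (cnt k : ZS) = 96 ∧ ∑ k, a6 k * (cnt k : ZS) = 96 := by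
  decide +kernel

theorem supp_sq : ∀ k, a5 k ≠ 0 ∨ a6 k ≠ 0 → mul k k ≠ k1 ∧ inD k := by decide +kernel

theorem center_kz : ∀ k, mul k kz = mul kz k := by decide +kernel
theorem kz_sq : mul kz kz = k1 ∧ kz ≠ k1 := by decide +kernel

theorem kz_unique : ∀ z, mul z z = k1 → z ≠ k1 → (∀ x, mul x z = mul z x) → z = kz := by
  decide +kernel

theorem refl_conj : ∀ k l, isRefl k → isRefl l → ∃ c, mul c k = mul l c := by decide +kernel

theorem refl_exists : isRefl (idx (1, 0, 0, 2)) := by decide +kernel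

/-- The Sylow `2`-subgroup. -/
def sylSet : Finset (Fin 48) := (sylList.map (Fin.ofNat 48)).toFinset

theorem syl_data : k1 ∈ sylSet ∧ sylSet.card = 16 ∧
    (∀ k ∈ sylSet, ∀ l ∈ sylSet, mul k l ∈ sylSet) ∧
    ∀ z, mul z z = k1 → z ≠ k1 → (∀ x ∈ sylSet, mul x z = mul z x) → z = kz := by decide +kernel

end Cfsg.Agent.GL23Cent
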