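/-
Transport of the tables to `GL(2,3)` and to a group isomorphic to it.
-/
import Cfsg.Agent.Lib.GL23Cent.Data
import Mathlib.LinearAlgebra.Matrix.GeneralLinearGroup.Defs
import Mathlib.LinearAlgebra.Matrix.Determinant.Basic

set_option autoImplicit false

namespace Cfsg.Agent.GL23Cent

open Matrix

/-- Entries of an invertible matrix. -/
def toQ (A : GL (Fin 2) (ZMod 3)) : Q4 :=
  ((A.1 0 0).val, (A.1 0 1).val, (A.1 1 0).val, (A.1 1 1).val)

theorem qdet_toQ (A : GL (Fin 2) (ZMod 3)) : qdet (toQ A) ≠ 0 := by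
  have h : IsUnit A.1.det := (Matrix.isUnit_iff_isUnit_det A.1).mp A.isUnit
  rw [Matrix.det_fin_two] at h
  have : ∀ a b c d : ZMod 3, a * d - b * c ≠ 0 → qdet (a.val, b.val, c.val, d.val) ≠ 0 := by decide
  exact this _ _ _ _ h.ne_zero

theorem els_idx_toQ (A : GL (Fin 2) (ZMod 3)) : els (idx (toQ A)) = toQ A :=
  els_idx (A.1 0 0) (A.1 0 1) (A.1 1 0) (A.1 1 1) (qdet_toQ A)

theorem toQ_injective : Function.Injective toQ := by
  intro A B h
  simp only [toQ, Prod.mk.injEq] at h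
  obtain ⟨h1, h2, h3, h4⟩ := h
  apply Units.ext
  ext i j
  fin_cases i <;> fin_cases j <;> simp only [Fin.zero_eta, Fin.mk_one]
  · exact ZMod.val_injective 3 h1
  · exact ZMod.val_injective 3 h2
  · exact ZMod.val_injective 3 h3
  · exact ZMod.val_injective 3 h4

theorem toQ_mul (A B : GL (Fin 2) (ZMod 3)) : toQ (A * B) = qmul (toQ A) (toQ B) := by
  have : ∀ a b c d : ZMod 3, (a * b + c * d).val = (a.val * b.val + c.val * d.val) % 3 := by decide
  simp [toQ, qmul, Matrix.mul_apply, Fin.sum_univ_two, this]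

theorem toQ_surj (k : Fin 48) : ∃ A : GL (Fin 2) (ZMod 3), toQ A = els k := by
  have h := els_lt k
  revert h
  generalize els k = q
  obtain ⟨a, b, c, d⟩ := q
  rintro ⟨h1, h2, h3, h4, hd⟩
  simp only at h1 h2 h3 h4
  have hM : (!![(a : ZMod 3), (b : ZMod 3); (c : ZMod 3), (d : ZMod 3)]).det ≠ 0 := by
    rw [Matrix.det_fin_two_of]
    have : ∀ a b c d : Fin 3, qdet (a.val, b.val, c.val, d.val) ≠ 0 →
        ((a.val : ZMod 3) * d.val - (b.val : ZMod 3) * c.val) ≠ 0 := by decide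
    exact this ⟨_, h1⟩ ⟨_, h2⟩ ⟨_, h3⟩ ⟨_, h4⟩ hd
  have hsq : ∀ x : ZMod 3, x ≠ 0 → x * x = 1 := by decide
  refine ⟨Matrix.GeneralLinearGroup.mk'' _ (IsUnit.of_mul_eq_one _ (hsq _ hM)), ?_⟩
  have hv : ∀ n : ℕ, n < 3 → ((n : ZMod 3)).val = n := fun n hn => ZMod.val_natCast_of_lt hn
  simp [toQ, Matrix.GeneralLinearGroup.mk'', Matrix.nonsingInvUnit, hv _ h1, hv _ h2, hv _ h3, hv _ h4]

/-- A bijection of a group with the index set, respecting multiplication. -/
structure Table (C : Type*) [Group C] where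
  φ : C ≃ Fin 48
  φ_mul : ∀ x y : C, φ (x * y) = mul (φ x) (φ y)

theorem toIdx_mul (A B : GL (Fin 2) (ZMod 3)) :
    idx (toQ (A * B)) = mul (idx (toQ A)) (idx (toQ B)) := by
  rw [mul, els_idx_toQ, els_idx_toQ, toQ_mul]

theorem toIdx_bijective : Function.Bijective fun A : GL (Fin 2) (ZMod 3) => idx (toQ A) := by
  refine ⟨fun A B h => toQ_injective ?_, fun k => ?_⟩
  · rw [← els_idx_toQ A, ← els_idx_toQ B]
    exact congrArg els h
  · obtain ⟨A, hA⟩ := toQ_surj k
    exact ⟨A, by simp only [hA, idx_els]⟩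

/-- The table of a group isomorphic to `GL(2,3)`. -/
noncomputable def Table.ofEquiv {C : Type*} [Group C] (e : C ≃* GL (Fin 2) (ZMod 3)) : Table C where
  φ := e.toEquiv.trans (Equiv.ofBijective _ toIdx_bijective)
  φ_mul x y := by
    show idx (toQ (e (x * y))) = mul (idx (toQ (e x))) (idx (toQ (e y)))
    rw [map_mul, toIdx_mul]

namespace Table

variable {C : Type*} [Group C] (T : Table C)

theorem φ_one : T.φ 1 = k1 := by
  obtain ⟨x, hx⟩ := T.φ.surjective k1
  have key : ∀ k : Fin 48, mul k k = k → k = k1 := by decide +kernel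
  exact key _ (by rw [← T.φ_mul, one_mul])

theorem eq_one_iff {x : C} : T.φ x = k1 ↔ x = 1 := by
  rw [← T.φ_one]; exact T.φ.injective.eq_iff

include T in
theorem card_eq : Nat.card C = 48 := by
  rw [Nat.card_congr T.φ, Nat.card_fin]

theorem sum_eq [Fintype C] {M : Type*} [AddCommMonoid M] (f : Fin 48 → M) :
    ∑ x : C, f (T.φ x) = ∑ k, f k := T.φ.sum_comp f

end Table

end Cfsg.Agent.GL23Cent
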