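/-
The class functions of `GL(2,3)` used in the order formula, as generalized characters.
-/
import Cfsg.Agent.Lib.GL23Cent.Model
import Cfsg.Agent.Lib.Char.Virtual
import Cfsg.Agent.Lib.Char.Induced
import Cfsg.Agent.Lib.Coherence.Virtual

set_option autoImplicit false

namespace Cfsg.Agent.GL23Cent

open Cfsg Cfsg.Agent.Char Matrix
open scoped ComplexConjugate

/-- The embedding of the coefficient ring. -/
noncomputable def ι : ZS →+* ℂ :=
  Zsqrtd.lift ⟨Complex.I * (Real.sqrt 2 : ℝ), by
    have h : ((Real.sqrt 2 : ℝ) : ℂ) * (Real.sqrt 2 : ℝ) = 2 := by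
      rw [← Complex.ofReal_mul, Real.mul_self_sqrt (by norm_num)]; norm_num
    rw [mul_mul_mul_comm, Complex.I_mul_I, h]; norm_num⟩

theorem conj_ι (z : ZS) : conj (ι z) = ι (star z) := by
  simp [ι, Zsqrtd.lift, Complex.conj_ofReal, mul_comm]

theorem ι_int (n : ℤ) : ι (n : ZS) = n := map_intCast ι n

namespace Table

variable {C : Type*} [Group C] (T : Table C)

/-- Pull a table function back to the group. -/
noncomputable def F (a : Fin 48 → ZS) : C → ℂ := fun x => ι (a (T.φ x))

theorem F_apply (a : Fin 48 → ZS) (x : C) : T.F a x = ι (a (T.φ x)) := rfl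

theorem F_one : T.F one = 1 := funext fun _ => map_one ι

/-- The two-dimensional representation. -/
noncomputable def mat (x : C) : Matrix (Fin 2) (Fin 2) ℂ :=
  !![ι (rep (T.φ x)).1, ι (rep (T.φ x)).2.1; ι (rep (T.φ x)).2.2.1, ι (rep (T.φ x)).2.2.2]

/-- The two-dimensional representation. -/
noncomputable def repHom : Representation ℂ C (Fin 2 → ℂ) where
  toFun x := Matrix.toLin' (T.mat x)
  map_one' := by
    have : T.mat 1 = 1 := by
      simp [Table.mat, T.φ_one, rep_k1, Matrix.one_fin_two]
    rw [this, Matrix.toLin'_one]; rfl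
  map_mul' x y := by
    have : T.mat (x * y) = T.mat x * T.mat y := by
      simp [Table.mat, T.φ_mul, rep_mul, zmul, Matrix.mul_fin_two]
    rw [this, Matrix.toLin'_mul]; rfl

theorem character_repHom : T.repHom.character = T.F tau := by
  funext x
  show LinearMap.trace ℂ _ (Matrix.toLin' (T.mat x)) = _
  rw [Matrix.trace_toLin'_eq, Table.mat, Matrix.trace_fin_two_of, T.F_apply, tau, map_add]

/-- The determinant character. -/
noncomputable def epsHom : C →* ℂ where
  toFun := T.F eps
  map_one' := by rw [T.F_apply, T.φ_one, eps_k1, map_one]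
  map_mul' x y := by simp only [T.F_apply, T.φ_mul, eps_mul, map_mul]

/-- `a` gives a generalized character. -/
def GC (a : Fin 48 → ZS) : Prop := IsGeneralizedCharacter C (T.F a)

theorem gc_one : T.GC one := by
  unfold Table.GC
  rw [T.F_one]
  exact Coherence.isGC_of_isCharacter isCharacter_one

variable {T}

theorem GC.add {a b : Fin 48 → ZS} (ha : T.GC a) (hb : T.GC b) :
    T.GC fun k => a k + b k := by
  have : T.F (fun k => a k + b k) = T.F a + T.F b := funext fun x => map_add ι _ _
  unfold Table.GC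
  rw [this]; exact Coherence.isGC_add ha hb

theorem GC.sub {a b : Fin 48 → ZS} (ha : T.GC a) (hb : T.GC b) :
    T.GC fun k => a k - b k := by
  have : T.F (fun k => a k - b k) = T.F a - T.F b := funext fun x => map_sub ι _ _
  unfold Table.GC
  rw [this]; exact Coherence.isGC_sub ha hb

theorem GC.mul {a b : Fin 48 → ZS} (ha : T.GC a) (hb : T.GC b) :
    T.GC fun k => a k * b k := by
  have : T.F (fun k => a k * b k) = T.F a * T.F b := funext fun x => map_mul ι _ _
  unfold Table.GC
  rw [this]; exact IsGeneralizedCharacter.mul ha hb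

variable (T)

theorem gc_tau : T.GC tau := by
  unfold Table.GC
  rw [← T.character_repHom]
  exact Coherence.isGC_of_isCharacter (isCharacter_character _)

theorem gc_eps : T.GC eps := Coherence.isGC_of_isCharacter (isCharacter_of_hom T.epsHom)

theorem gc_etau : T.GC etau := GC.mul T.gc_eps T.gc_tau
theorem gc_three' : T.GC three' := GC.sub (GC.mul T.gc_tau T.gc_etau) T.gc_one
theorem gc_three : T.GC three := GC.mul T.gc_eps T.gc_three'
theorem gc_two : T.GC two :=
  GC.sub (GC.sub (GC.sub (GC.mul T.gc_three T.gc_three) T.gc_one) T.gc_three) T.gc_three'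
theorem gc_a1 : T.GC a1 :=
  GC.sub (GC.add (GC.add T.gc_one T.gc_eps) T.gc_tau) (GC.mul T.gc_tau T.gc_two)
theorem gc_b1 : T.GC b1 := GC.sub T.gc_two T.gc_tau
theorem gc_b2 : T.GC b2 := GC.sub T.gc_two T.gc_etau
theorem gc_a5 : T.GC a5 := GC.sub (GC.add T.gc_one T.gc_two) T.gc_three
theorem gc_a6 : T.GC a6 := GC.sub (GC.add T.gc_eps T.gc_two) T.gc_three'
theorem gc_hh : T.GC hh := GC.add (GC.add T.gc_one T.gc_two) T.gc_three'

theorem inner_F [Fintype C] (a b : Fin 48 → ZS) {n m : ℤ} (h : ip a b = (n : ZS))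
    (hn : n = 48 * m) : classInner (T.F a) (T.F b) = m := by
  rw [classInner, T.card_eq]
  have e : ∀ x : C, T.F a x * conj (T.F b x) = ι (a (T.φ x) * star (b (T.φ x))) := fun x => by
    rw [map_mul, ← conj_ι]; rfl
  rw [Finset.sum_congr rfl fun x _ => e x, T.sum_eq (fun k => ι (a k * star (b k))), ← map_sum]
  change _ * ι (ip a b) = _
  rw [h, ι_int, hn]
  push_cast
  ring

end Table

end Cfsg.Agent.GL23Cent
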