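/-
Brauer's order formula for an involution with centralizer `GL(2,3)`.
-/
import Cfsg.Agent.Lib.GL23Cent.Lift
import Cfsg.Agent.Lib.GL23Cent.Coherent
import Cfsg.Agent.Lib.Char.ClassMult
import Mathlib.GroupTheory.Sylow

set_option autoImplicit false

namespace Cfsg.Agent.GL23Cent

open Cfsg Cfsg.Agent.Char Cfsg.Agent.Coherence
open scoped ComplexConjugate

theorem inD_pow_unique : ∀ k : Fin 48, inD k →
    (mul k k = k1 → k ≠ k1 → k = kz) ∧
    (mul (mul k k) (mul k k) = k1 → mul k k ≠ k1 → mul k k = kz) ∧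
    (mul (mul k (mul k k)) (mul k (mul k k)) = k1 → mul k (mul k k) ≠ k1 → mul k (mul k k) = kz) ∧
    (mul (mul (mul k k) (mul k k)) (mul (mul k k) (mul k k)) = k1 →
      mul (mul k k) (mul k k) ≠ k1 → mul (mul k k) (mul k k) = kz) := by decide +kernel

variable {G : Type*} [Group G] {t : G} (T : Table ↥(Subgroup.centralizer ({t} : Set G)))

set_option quotPrecheck false in
local notation "C" => Subgroup.centralizer (Singleton.singleton t : Set G)

theorem mem_cent_iff {g : G} : g ∈ C ↔ g * t = t * g := Subgroup.mem_centralizer_singleton_iff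

theorem phi_t (ht : orderOf t = 2) : T.φ ⟨t, mem_cent_iff.mpr rfl⟩ = kz := by
  set z : C := ⟨t, mem_cent_iff.mpr rfl⟩
  refine kz_unique _ ?_ ?_ ?_
  · rw [← T.φ_mul, T.eq_one_iff]
    exact Subtype.ext (by show t * t = 1; rw [← sq, ← ht, pow_orderOf_eq_one])
  · rw [Ne, T.eq_one_iff]
    intro h
    have : t = 1 := congrArg Subtype.val h
    rw [this, orderOf_one] at ht; omega
  · intro x
    obtain ⟨y, rfl⟩ := T.φ.surjective x
    rw [← T.φ_mul, ← T.φ_mul]
    exact congrArg _ (Subtype.ext (mem_cent_iff.mp y.2))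

theorem eq_t_of_phi (ht : orderOf t = 2) {x : C} (h : T.φ x = kz) : (x : G) = t :=
  congrArg Subtype.val (T.φ.injective (h.trans (phi_t T ht).symm))

theorem pow_inD (ht : orderOf t = 2) (x : C) (hx : inD (T.φ x)) :
    ∃ n : ℕ, 1 ≤ n ∧ n ≤ 4 ∧ (x : G) ^ n = t := by
  rcases hx with h | h | h | h
  · exact ⟨1, le_rfl, by norm_num, by rw [pow_one]; exact eq_t_of_phi T ht h⟩
  · rw [← T.φ_mul] at h
    exact ⟨2, by norm_num, by norm_num, by rw [sq]; exact eq_t_of_phi T ht h⟩
  · rw [← T.φ_mul, ← T.φ_mul] at h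
    exact ⟨3, by norm_num, by norm_num, by rw [pow_succ', sq]; exact eq_t_of_phi T ht h⟩
  · rw [← T.φ_mul, ← T.φ_mul] at h
    refine ⟨4, by norm_num, le_rfl, ?_⟩
    rw [show (4 : ℕ) = 2 + 2 from rfl, pow_add, sq]; exact eq_t_of_phi T ht h

theorem pow_eq_t (ht : orderOf t = 2) (x : C) (hx : inD (T.φ x)) {n : ℕ} (h1 : 1 ≤ n) (h4 : n ≤ 4)
    (hsq : (x : G) ^ n * (x : G) ^ n = 1) (hne : (x : G) ^ n ≠ 1) : (x : G) ^ n = t := by
  obtain ⟨u1, u2, u3, u4⟩ := inD_pow_unique _ hx
  have hs : T.φ (x ^ n * x ^ n) = k1 := T.eq_one_iff.mpr (Subtype.ext (by simpa using hsq))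
  have hn : T.φ (x ^ n) ≠ k1 := fun e =>
    hne (by simpa using congrArg Subtype.val (T.eq_one_iff.mp e))
  suffices T.φ (x ^ n) = kz by simpa using eq_t_of_phi T ht this
  rw [T.φ_mul] at hs
  interval_cases n
  · rw [pow_one] at hs hn ⊢; exact u1 hs hn
  · rw [sq, T.φ_mul] at hs hn ⊢; exact u2 hs hn
  · rw [pow_succ', sq, T.φ_mul, T.φ_mul] at hs hn ⊢; exact u3 hs hn
  · rw [show (4 : ℕ) = 2 + 2 from rfl, pow_add, sq, T.φ_mul, T.φ_mul] at hs hn ⊢; exact u4 hs hn

/-- The special classes are trivial-intersection: conjugation between them happens inside `C`. -/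
theorem special (ht : orderOf t = 2) {g : G} {x y : C} (hx : inD (T.φ x)) (hy : inD (T.φ y))
    (h : g * x * g⁻¹ = y) : g ∈ C := by
  obtain ⟨n, h1, h4, hn⟩ := pow_inD T ht x hx
  have e : (y : G) ^ n = g * t * g⁻¹ := by rw [← h, conj_pow, hn]
  have hy' := pow_eq_t T ht y hy h1 h4
    (by rw [e, show g * t * g⁻¹ * (g * t * g⁻¹) = g * (t * t) * g⁻¹ by group, ← sq, ← ht,
      pow_orderOf_eq_one, mul_one, mul_inv_cancel])
    (by
      rw [e]; intro h'
      have : t = 1 := by simpa using h'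
      rw [this, orderOf_one] at ht; omega)
  rw [e] at hy'
  exact mem_cent_iff.mpr (mul_inv_eq_iff_eq_mul.mp hy')

/-- A table function supported on the special classes. -/
def Supp (a : Fin 48 → ZS) : Prop := ∀ k, ¬ inD k → a k = 0

variable [Fintype G]

/-- The centralizer of `t` is a finite type. -/
noncomputable local instance centFintype : Fintype C := Fintype.ofFinite _

theorem F_conj (a : Fin 48 → ZS) (ha : T.GC a) (x y : C) : T.F a (y * x * y⁻¹) = T.F a x :=
  isGC_isClassFunction ha x y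

theorem indFun_eq (ht : orderOf t = 2) {a : Fin 48 → ZS} (ha : T.GC a) (hs : Supp a) (x : C)
    (hx : inD (T.φ x)) : indFun C (T.F a) x = T.F a x := by
  classical
  have hout : ∀ g : G, g ∉ C → extendByZero C (T.F a) (g⁻¹ * x * g) = 0 := by
    intro g hg
    rw [extendByZero_eq]
    split_ifs with hm
    · rw [T.F_apply, hs _ ?_, map_zero]
      intro hD
      apply hg
      have := special T ht (g := g⁻¹) (x := x) (y := ⟨_, hm⟩) hx hD (by simp)
      simpa using (C).inv_mem this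
    · rfl
  have hin : ∀ g : C, extendByZero C (T.F a) ((g : G)⁻¹ * x * g) = T.F a x := by
    intro g
    have e : (g : G)⁻¹ * x * g = ((g⁻¹ * x * g : C) : G) := by simp
    rw [e, extendByZero_coe]
    simpa using F_conj T a ha x g⁻¹
  rw [indFun, ← Finset.sum_filter_add_sum_filter_not Finset.univ (· ∈ C),
    Finset.sum_eq_zero (s := Finset.univ.filter fun g => ¬ g ∈ C) fun g hg =>
      hout g (Finset.mem_filter.1 hg).2, add_zero,
    Finset.sum_subtype (p := (· ∈ C)) _ (fun g => by simp)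
      (fun g => extendByZero C (T.F a) (g⁻¹ * x * g)),
    Finset.sum_congr rfl fun g _ => hin g, Finset.sum_const, Finset.card_univ, nsmul_eq_mul,
    ← Nat.card_eq_fintype_card]
  have : (Nat.card C : ℂ) ≠ 0 := Nat.cast_ne_zero.2 Nat.card_pos.ne'
  field_simp

theorem ind_inner (ht : orderOf t = 2) {a b : Fin 48 → ZS} (ha : T.GC a) (hs : Supp a)
    (hb : Supp b) {n m : ℤ} (h : ip a b = (n : ZS)) (hn : n = 48 * m) :
    classInner (indFun C (T.F a)) (indFun C (T.F b)) = m := by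
  rw [frobenius_reciprocity' _ _ (indFun_isClassFunction _ _), ← T.inner_F a b h hn, classInner,
    classInner]
  congr 1
  refine Finset.sum_congr rfl fun x _ => ?_
  by_cases hx : inD (T.φ x)
  · simp only [indFun_eq T ht ha hs x hx]
  · simp [T.F_apply, hb _ hx]

theorem ind_inner_one (a : Fin 48 → ZS) {n m : ℤ} (h : ip a one = (n : ZS)) (hn : n = 48 * m) :
    classInner (indFun C (T.F a)) 1 = m := by
  rw [frobenius_reciprocity _ _ (IsCharacter.isClassFunction isCharacter_one),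
    ← T.inner_F a one h hn, T.F_one]
  rfl

theorem ind_one_zero {a : Fin 48 → ZS} (hs : Supp a) : indFun C (T.F a) 1 = 0 := by
  rw [indFun_one_apply, T.F_apply, T.φ_one, hs _ k1_not_inD, map_zero, mul_zero]

theorem supp_a1 : Supp a1 := fun k h => (supported k h).1
theorem supp_b1 : Supp b1 := fun k h => (supported k h).2.1
theorem supp_b2 : Supp b2 := fun k h => (supported k h).2.2.1
theorem supp_a5 : Supp a5 := fun k h => (supported k h).2.2.2.1
theorem supp_a6 : Supp a6 := fun k h => (supported k h).2.2.2.2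

/-- The five induced virtual characters. -/
noncomputable def five (ht : orderOf t = 2) : Five G where
  A1 := indFun C (T.F a1)
  B1 := indFun C (T.F b1)
  B2 := indFun C (T.F b2)
  A5 := indFun C (T.F a5)
  A6 := indFun C (T.F a6)
  gA1 := IsGeneralizedCharacter.indFun T.gc_a1
  gB1 := IsGeneralizedCharacter.indFun T.gc_b1
  gB2 := IsGeneralizedCharacter.indFun T.gc_b2
  gA5 := IsGeneralizedCharacter.indFun T.gc_a5
  gA6 := IsGeneralizedCharacter.indFun T.gc_a6
  nA1 := by
    rw [ind_inner T ht T.gc_a1 supp_a1 supp_a1 (n := 192) (m := 4) (mod_cast ips.2.2.1) rfl]; norm_num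
  nB1 := by
    rw [ind_inner T ht T.gc_b1 supp_b1 supp_b1 (n := 96) (m := 2) (mod_cast ips.1) rfl]; norm_num
  nB2 := by
    rw [ind_inner T ht T.gc_b2 supp_b2 supp_b2 (n := 96) (m := 2) (mod_cast ips.2.1) rfl]; norm_num
  nA5 := by
    rw [ind_inner T ht T.gc_a5 supp_a5 supp_a5 (n := 144) (m := 3) (mod_cast ips.2.2.2.1) rfl]; norm_num
  nA6 := by
    rw [ind_inner T ht T.gc_a6 supp_a6 supp_a6 (n := 144) (m := 3) (mod_cast ips.2.2.2.2.1) rfl]; norm_num
  i21 := by
    rw [ind_inner T ht T.gc_b2 supp_b2 supp_b1 (n := 48) (m := 1) (mod_cast ips.2.2.2.2.2.1) rfl]; norm_num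
  i51 := by
    rw [ind_inner T ht T.gc_a5 supp_a5 supp_b1 (n := 48) (m := 1) (mod_cast ips.2.2.2.2.2.2.1) rfl]; norm_num
  i52 := by
    rw [ind_inner T ht T.gc_a5 supp_a5 supp_b2 (n := 48) (m := 1) (mod_cast ips.2.2.2.2.2.2.2.1) rfl]; norm_num
  i61 := by
    rw [ind_inner T ht T.gc_a6 supp_a6 supp_b1 (n := 48) (m := 1) (mod_cast ips.2.2.2.2.2.2.2.2.1) rfl]; norm_num
  i62 := by
    rw [ind_inner T ht T.gc_a6 supp_a6 supp_b2 (n := 48) (m := 1) (mod_cast ips.2.2.2.2.2.2.2.2.2.1) rfl]; norm_num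
  i65 := by
    rw [ind_inner T ht T.gc_a6 supp_a6 supp_a5 (n := 48) (m := 1) (mod_cast ips.2.2.2.2.2.2.2.2.2.2.1) rfl]; norm_num
  i11 := by
    rw [ind_inner T ht T.gc_a1 supp_a1 supp_b1 (n := -48) (m := -1) (mod_cast ips.2.2.2.2.2.2.2.2.2.2.2.1) rfl]; norm_num
  i12 := by
    rw [ind_inner T ht T.gc_a1 supp_a1 supp_b2 (n := 0) (m := 0) (mod_cast ips.2.2.2.2.2.2.2.2.2.2.2.2.1) rfl]; norm_num
  i15 := by
    rw [ind_inner T ht T.gc_a1 supp_a1 supp_a5 (n := 48) (m := 1) (mod_cast ips.2.2.2.2.2.2.2.2.2.2.2.2.2.1) rfl]; norm_num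
  i16 := by
    rw [ind_inner T ht T.gc_a1 supp_a1 supp_a6 (n := 48) (m := 1) (mod_cast ips.2.2.2.2.2.2.2.2.2.2.2.2.2.2.1) rfl]; norm_num
  oB1 := by
    rw [ind_inner_one T b1 (n := 0) (m := 0) (mod_cast ips.2.2.2.2.2.2.2.2.2.2.2.2.2.2.2.1) rfl]; norm_num
  oB2 := by
    rw [ind_inner_one T b2 (n := 0) (m := 0) (mod_cast ips.2.2.2.2.2.2.2.2.2.2.2.2.2.2.2.2.1) rfl]; norm_num
  oA1 := by
    rw [ind_inner_one T a1 (n := 48) (m := 1) (mod_cast ips.2.2.2.2.2.2.2.2.2.2.2.2.2.2.2.2.2.1) rfl]; norm_num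
  oA5 := by
    rw [ind_inner_one T a5 (n := 48) (m := 1) (mod_cast ips.2.2.2.2.2.2.2.2.2.2.2.2.2.2.2.2.2.2.1) rfl]; norm_num
  oA6 := by
    rw [ind_inner_one T a6 (n := 0) (m := 0) (mod_cast ips.2.2.2.2.2.2.2.2.2.2.2.2.2.2.2.2.2.2.2) rfl]; norm_num
  zB1 := ind_one_zero T supp_b1
  zB2 := ind_one_zero T supp_b2
  zA5 := ind_one_zero T supp_a5
  zA6 := ind_one_zero T supp_a6

theorem sum_ite_kz (ht : orderOf t = 2) (f : C → ℂ) (c : ℂ) :
    ∑ x : C, f x * (if T.φ x = kz then c else 0) = f ⟨t, mem_cent_iff.mpr rfl⟩ * c := by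
  classical
  rw [Finset.sum_eq_single (⟨t, mem_cent_iff.mpr rfl⟩ : C)]
  · rw [if_pos (phi_t T ht)]
  · intro x _ hx
    rw [if_neg (fun e => hx (T.φ.injective (e.trans (phi_t T ht).symm))), mul_zero]
  · simp

theorem sum_ite_k1 (f : C → ℂ) (c : ℂ) :
    ∑ x : C, f x * (if T.φ x = k1 then c else 0) = f 1 * c := by
  classical
  rw [Finset.sum_eq_single (1 : C)]
  · rw [if_pos T.φ_one]
  · intro x _ hx
    rw [if_neg (fun e => hx (T.eq_one_iff.mp e)), mul_zero]
  · simp

/-- The value at `t` of a class function, from its inner products with the five functions. -/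
theorem value_t (ht : orderOf t = 2) {S : G → ℂ} (hS : IsClassFunction G S) :
    S t = 4 * classInner S (five T ht).A1 + 6 * classInner S (five T ht).B1 +
      2 * classInner S (five T ht).B2 - 3 * classInner S (five T ht).A5 -
      3 * classInner S (five T ht).A6 := by
  show S t = 4 * classInner S (indFun C (T.F a1)) + 6 * classInner S (indFun C (T.F b1)) +
    2 * classInner S (indFun C (T.F b2)) - 3 * classInner S (indFun C (T.F a5)) -
    3 * classInner S (indFun C (T.F a6))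
  rw [frobenius_reciprocity' C (T.F a1) hS, frobenius_reciprocity' C (T.F b1) hS,
    frobenius_reciprocity' C (T.F b2) hS, frobenius_reciprocity' C (T.F a5) hS,
    frobenius_reciprocity' C (T.F a6) hS]
  simp only [classInner, T.card_eq, Finset.mul_sum, ← Finset.sum_add_distrib,
    ← Finset.sum_sub_distrib]
  have e : ∀ x : C, 4 * ((48 : ℕ) : ℂ)⁻¹ * (S x * conj (T.F a1 x)) +
      6 * ((48 : ℕ) : ℂ)⁻¹ * (S x * conj (T.F b1 x)) + 2 * ((48 : ℕ) : ℂ)⁻¹ * (S x * conj (T.F b2 x))
      - 3 * ((48 : ℕ) : ℂ)⁻¹ * (S x * conj (T.F a5 x))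
      - 3 * ((48 : ℕ) : ℂ)⁻¹ * (S x * conj (T.F a6 x)) =
      S x * (if T.φ x = kz then 1 else 0) := fun x => by
    have h := congrArg (fun z => conj (ι z)) (ident_t (T.φ x))
    simp only [map_sub, map_add, map_mul, map_ofNat, apply_ite ι, apply_ite (starRingEnd ℂ),
      map_zero] at h
    simp only [T.F_apply]
    have h' : (if T.φ x = kz then (1 : ℂ) else 0) = ((48 : ℕ) : ℂ)⁻¹ * (if T.φ x = kz then 48 else 0) := by
      split_ifs <;> norm_num
    rw [h', h]; ring
  simp only [← mul_assoc] at e ⊢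
  rw [Finset.sum_congr rfl fun x _ => e x, sum_ite_kz T ht, mul_one]

/-- The class sum functional. -/
noncomputable def L [Fintype (IrrCharacter G)] (t : G) (θ : G → ℂ) : ℂ :=
  ∑ χ : IrrCharacter G, classInner θ (χ : G → ℂ) * ((χ : G → ℂ) t ^ 2 / (χ : G → ℂ) 1)

theorem L_add [Fintype (IrrCharacter G)] (θ η : G → ℂ) : L t (θ + η) = L t θ + L t η := by
  simp only [L, classInner_add_left, add_mul, Finset.sum_add_distrib]

theorem L_signed [Fintype (IrrCharacter G)] {S : G → ℂ} (hS : IsSignedIrr G S) :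
    L t S = S t ^ 2 / S 1 := by
  classical
  have key : ∀ χ : IrrCharacter G, L t (χ : G → ℂ) = (χ : G → ℂ) t ^ 2 / (χ : G → ℂ) 1 := by
    intro χ
    rw [L, Finset.sum_eq_single χ]
    · rw [classInner_irr_self χ.2, one_mul]
    · intro ψ _ hψ
      rw [classInner_irr_of_ne χ.2 ψ.2 (fun e => hψ (Subtype.ext e).symm), zero_mul]
    · simp
  rcases hS with h | h
  · exact key ⟨S, h⟩
  · have := key ⟨-S, h⟩
    have e : L t (-S) = - L t S := by simp [L, classInner_neg_left, Finset.sum_neg_distrib]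
    simp only [e, Pi.neg_apply, neg_sq, div_neg] at this
    exact neg_injective this

include T in
theorem card_class (ht : orderOf t = 2) :
    (Nat.card {x : G // IsConj t x} : ℂ) * 48 = Nat.card G := by
  have := card_conjugates_mul_card_centralizer t
  rw [T.card_eq] at this
  exact_mod_cast this

theorem L_ind [Fintype (IrrCharacter G)] (ht : orderOf t = 2) (a : Fin 48 → ZS) (k : ℂ)
    (hN : ∀ x : C, a (T.φ x) ≠ 0 →
      (Nat.card {p : G × G // IsConj t p.1 ∧ IsConj t p.2 ∧ p.1 * p.2 = (x : G)} : ℂ) =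
        k * cnt (T.φ x)) (hsum : ∑ i, a i * (cnt i : ZS) = 96) :
    L t (indFun C (T.F a)) = k * 4608 / Nat.card G := by
  set K : ℂ := (Nat.card {x : G // IsConj t x} : ℂ)
  have hg : (Nat.card G : ℂ) ≠ 0 := Nat.cast_ne_zero.2 Nat.card_pos.ne'
  have hKg : K * 48 = Nat.card G := card_class T ht
  have hK : K ≠ 0 := fun h => hg (by rw [← hKg, h, zero_mul])
  let s : C → ℂ := fun x => ∑ χ : IrrCharacter G,
    (χ : G → ℂ) t * (χ : G → ℂ) t * conj ((χ : G → ℂ) x) / (χ : G → ℂ) 1
  have h1 : L t (indFun C (T.F a)) = (48 : ℂ)⁻¹ * ∑ x : C, T.F a x * s x := by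
    rw [L, Finset.sum_congr rfl fun (χ : IrrCharacter G) _ => by
      rw [frobenius_reciprocity C (T.F a) (IsIrrCharacter.isClassFunction χ.2)]]
    simp only [classInner, T.card_eq, Finset.mul_sum, Finset.sum_mul, s]
    rw [Finset.sum_comm]
    refine Finset.sum_congr rfl fun x _ => Finset.sum_congr rfl fun χ _ => ?_
    push_cast; ring
  have h2 : ∀ x : C, T.F a x * s x = ι (a (T.φ x) * (cnt (T.φ x) : ZS)) *
      (k * Nat.card G / (K * K)) := by
    intro x
    by_cases h0 : a (T.φ x) = 0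
    · simp [T.F_apply, h0]
    · have := class_mult_formula t t (x : G)
      rw [hN x h0] at this
      rw [map_mul, map_natCast, T.F_apply]
      have this' : k * cnt (T.φ x) = K * K / Nat.card G * s x := this
      have e : s x = k * cnt (T.φ x) * Nat.card G / (K * K) := by
        rw [this']; field_simp
      rw [e]; ring
  rw [h1, Finset.sum_congr rfl fun x _ => h2 x, ← Finset.sum_mul,
    T.sum_eq (fun i => ι (a i * (cnt i : ZS))), ← map_sum, hsum, map_ofNat]
  rw [← hKg] at hg ⊢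
  field_simp
  ring

/-- Pairs of conjugates of `t` with product in the support of `a5`, `a6`. -/
theorem count (ht : orderOf t = 2) (x : C) (hx : a5 (T.φ x) ≠ 0 ∨ a6 (T.φ x) ≠ 0) :
    ((∀ p : C, isRefl (T.φ p) → IsConj t (p : G)) →
      Nat.card {p : G × G // IsConj t p.1 ∧ IsConj t p.2 ∧ p.1 * p.2 = (x : G)} = cnt (T.φ x)) ∧
    ((∀ p : C, isRefl (T.φ p) → ¬ IsConj t (p : G)) →
      Nat.card {p : G × G // IsConj t p.1 ∧ IsConj t p.2 ∧ p.1 * p.2 = (x : G)} = 0) := by
  obtain ⟨hx2, hxD⟩ := supp_sq _ hx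
  have hxx : (x : G) * x ≠ 1 := fun e => hx2 (by
    rw [← T.φ_mul, T.eq_one_iff]; exact Subtype.ext e)
  have hinv : ∀ p : G, IsConj t p → p * p = 1 ∧ p ≠ 1 := by
    intro p hp
    obtain ⟨c, rfl⟩ := isConj_iff.mp hp
    constructor
    · rw [show c * t * c⁻¹ * (c * t * c⁻¹) = c * (t * t) * c⁻¹ by group, ← sq, ← ht,
        pow_orderOf_eq_one, mul_one, mul_inv_cancel]
    · intro h
      have : t = 1 := by simpa using h
      rw [this, orderOf_one] at ht; omega
  have key : ∀ p q : G, IsConj t p → IsConj t q → p * q = (x : G) →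
      ∃ hp : p ∈ C, isRefl (T.φ ⟨p, hp⟩) ∧ isRefl (mul (T.φ ⟨p, hp⟩) (T.φ x)) ∧
        q = p * x := by
    intro p q hp hq hpq
    obtain ⟨hp2, hp1⟩ := hinv p hp
    obtain ⟨hq2, hq1⟩ := hinv q hq
    have hq' : q = p * x := by rw [← hpq, ← mul_assoc, hp2, one_mul]
    have hpinv : p⁻¹ = p := inv_eq_of_mul_eq_one_right hp2
    have hqinv : q⁻¹ = q := inv_eq_of_mul_eq_one_right hq2
    obtain ⟨n, -, -, hn⟩ := pow_inD T ht x hxD
    have hcx : p * (x : G) * p⁻¹ = (x : G)⁻¹ := by
      rw [← hpq, mul_inv_rev, hqinv, ← mul_assoc, hp2, one_mul]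
    have htt : t⁻¹ = t := inv_eq_of_mul_eq_one_right (by rw [← sq, ← ht, pow_orderOf_eq_one])
    have hpC : p ∈ C := by
      have h := congrArg (· ^ n) hcx
      simp only [conj_pow, inv_pow, hn, htt] at h
      exact mem_cent_iff.mpr (mul_inv_eq_iff_eq_mul.mp h)
    have hqC : q ∈ C := hq' ▸ Subgroup.mul_mem _ hpC x.2
    have hcomm : ∀ z : C, (z : G) * t = t * z := fun z => mem_cent_iff.mp z.2
    have hrefl : ∀ r : C, (r : G) * r = 1 → (r : G) ≠ 1 → (r : G) ≠ t → isRefl (T.φ r) := by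
      intro r h1 h2 h3
      exact ⟨by rw [← T.φ_mul, T.eq_one_iff]; exact Subtype.ext h1,
        fun e => h2 (congrArg Subtype.val (T.eq_one_iff.mp e)),
        fun e => h3 (eq_t_of_phi T ht e)⟩
    refine ⟨hpC, hrefl _ hp2 hp1 ?_, ?_, hq'⟩
    · intro hpt
      change p = t at hpt
      apply hxx
      have h := hq2
      rw [hq', hpt] at h
      calc (x : G) * x = (x : G) * (t * t) * x := by
            rw [← sq t, ← ht, pow_orderOf_eq_one, mul_one]
        _ = ((x : G) * t) * (t * x) := by group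
        _ = (t * x) * (t * x) := by rw [hcomm x]
        _ = 1 := h
    · rw [← T.φ_mul]
      refine hrefl _ (by simpa [← hq'] using hq2) (by simpa [← hq'] using hq1) ?_
      intro hqt
      apply hxx
      have hqt' : q = t := by simpa [← hq'] using hqt
      have hp' : p = (x : G) * t := by
        rw [← hpq, hqt', mul_assoc, ← sq t, ← ht, pow_orderOf_eq_one, mul_one]
      have h := hp2
      rw [hp'] at h
      calc (x : G) * x = (x : G) * (t * t) * x := by
            rw [← sq t, ← ht, pow_orderOf_eq_one, mul_one]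
        _ = ((x : G) * t) * (t * x) := by group
        _ = ((x : G) * t) * (x * t) := by rw [hcomm x]
        _ = 1 := h
  constructor
  · intro hK
    rw [cnt, ← Fintype.card_subtype, ← Nat.card_eq_fintype_card]
    refine Nat.card_congr
      { toFun := fun p => ⟨T.φ ⟨p.1.1, (key _ _ p.2.1 p.2.2.1 p.2.2.2).1⟩,
          (key _ _ p.2.1 p.2.2.1 p.2.2.2).2.1, (key _ _ p.2.1 p.2.2.1 p.2.2.2).2.2.1⟩
        invFun := fun i => ⟨((T.φ.symm i.1 : G), (T.φ.symm i.1 : G) * x), ?_, ?_, ?_⟩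
        left_inv := ?_
        right_inv := ?_ }
    · exact hK _ (by rw [Equiv.apply_symm_apply]; exact i.2.1)
    · have := hK (T.φ.symm i.1 * x) (by rw [T.φ_mul, Equiv.apply_symm_apply]; exact i.2.2)
      simpa using this
    · have h : T.φ (T.φ.symm i.1 * T.φ.symm i.1) = k1 := by
        rw [T.φ_mul, Equiv.apply_symm_apply]; exact i.2.1.1
      have h' := congrArg Subtype.val (T.eq_one_iff.mp h)
      simp only [Subgroup.coe_mul, OneMemClass.coe_one] at h'
      rw [← mul_assoc, h', one_mul]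
    · rintro ⟨⟨p, q⟩, hp, hq, hpq⟩
      obtain ⟨_, _, _, hq'⟩ := key p q hp hq hpq
      simp [hq']
    · rintro ⟨i, hi⟩
      simp
  · intro hK
    have : IsEmpty {p : G × G // IsConj t p.1 ∧ IsConj t p.2 ∧ p.1 * p.2 = (x : G)} := ⟨fun p => by
      obtain ⟨hp, hr, -⟩ := key _ _ p.2.1 p.2.2.1 p.2.2.2
      exact hK _ hr p.2.1⟩
    exact Nat.card_of_isEmpty

/-- The reflections are all or none conjugate to `t`. -/
theorem refl_all_or_none :
    (∀ p : C, isRefl (T.φ p) → IsConj t (p : G)) ∨ (∀ p : C, isRefl (T.φ p) → ¬ IsConj t (p : G)) := by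
  by_cases h : ∀ p : C, isRefl (T.φ p) → IsConj t (p : G)
  · exact Or.inl h
  · refine Or.inr fun p hp hc => h fun q hq => ?_
    obtain ⟨c, hcc⟩ := refl_conj _ _ hp hq
    obtain ⟨c, rfl⟩ := T.φ.surjective c
    rw [← T.φ_mul, ← T.φ_mul] at hcc
    have e := congrArg Subtype.val (T.φ.injective hcc)
    simp only [Subgroup.coe_mul] at e
    exact hc.trans (isConj_iff.mpr ⟨(c : G), by rw [e]; group⟩)

omit [Fintype G] in
include T in
/-- `16` is the exact power of `2` dividing the order. -/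
theorem card_eq_sixteen_mul [Finite G] (ht : orderOf t = 2) :
    ∃ o : ℕ, Odd o ∧ Nat.card G = 16 * o := by
  classical
  have : Fact (Nat.Prime 2) := ⟨Nat.prime_two⟩
  obtain ⟨s1, s16, smul, sz⟩ := syl_data
  let M : Submonoid C :=
    { carrier := {x | T.φ x ∈ sylSet}
      one_mem' := by show T.φ 1 ∈ sylSet; rw [T.φ_one]; exact s1
      mul_mem' := fun {x y} hx hy => by show T.φ (x * y) ∈ sylSet; rw [T.φ_mul]; exact smul _ hx _ hy }
  let S : Subgroup C :=
    { M with
      inv_mem' := fun {x} hx => by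
        show x⁻¹ ∈ M
        rw [inv_eq_of_mul_eq_one_right (b := x ^ (orderOf x - 1))
          (by rw [← pow_succ', Nat.sub_add_cancel (orderOf_pos x), pow_orderOf_eq_one])]
        exact M.pow_mem hx _ }
  have hS : Nat.card S = 16 := by
    have e : S ≃ {k // k ∈ sylSet} :=
      T.φ.subtypeEquiv (fun x => Iff.rfl)
    rw [Nat.card_congr e, Nat.card_eq_fintype_card, Fintype.card_coe, s16]
  let S' : Subgroup G := S.map (Subgroup.subtype C)
  have hS' : Nat.card S' = 2 ^ 4 := by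
    rw [Subgroup.card_map_of_injective (Subgroup.subtype_injective C), hS]; norm_num
  obtain ⟨P, hP⟩ := (IsPGroup.of_card hS').exists_le_sylow
  -- a central involution of `P` is `t`
  have hPne : Nontrivial (P : Subgroup G) := by
    rw [Subgroup.nontrivial_iff_ne_bot]
    intro h
    rw [h, le_bot_iff] at hP
    rw [hP, Subgroup.card_bot] at hS'; norm_num at hS'
  have hz := P.isPGroup'.center_nontrivial
  obtain ⟨z, hz2⟩ : ∃ z : Subgroup.center (P : Subgroup G), orderOf z = 2 :=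
    exists_prime_orderOf_dvd_card' 2 (by
      rcases (P.isPGroup'.to_subgroup (Subgroup.center _)).exists_card_eq with ⟨n, hn⟩
      rcases n with - | n
      · exfalso
        have := Finite.one_lt_card (α := Subgroup.center (P : Subgroup G))
        rw [hn] at this; simp at this
      · rw [hn]; exact dvd_pow_self 2 n.succ_ne_zero)
  have hzc : ∀ y ∈ (P : Subgroup G), y * (z.1.1 : G) = z.1.1 * y := fun y hy =>
    congrArg Subtype.val (Subgroup.mem_center_iff.mp z.2 ⟨y, hy⟩)
  have htS : t ∈ S' := by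
    refine ⟨⟨t, mem_cent_iff.mpr rfl⟩, ?_, rfl⟩
    show T.φ _ ∈ sylSet
    rw [phi_t T ht]
    decide +kernel
  have hzC : (z.1.1 : G) ∈ C := mem_cent_iff.mpr (hzc t (hP htS)).symm
  have hzt : (z.1.1 : G) = t := by
    refine eq_t_of_phi T ht (x := ⟨_, hzC⟩) (sz _ ?_ ?_ ?_)
    · rw [← T.φ_mul, T.eq_one_iff]
      have := pow_orderOf_eq_one z
      rw [hz2, sq] at this
      exact Subtype.ext (congrArg (fun w => (w.1.1 : G)) this)
    · rw [Ne, T.eq_one_iff]
      intro h
      have : z = 1 := Subtype.ext (Subtype.ext (Subtype.ext_iff.mp h :))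
      rw [this, orderOf_one] at hz2; omega
    · intro k hk
      obtain ⟨y, rfl⟩ := T.φ.surjective k
      rw [← T.φ_mul, ← T.φ_mul]
      exact congrArg _ (Subtype.ext (hzc y (hP ⟨y, hk, rfl⟩)))
  have hPC : (P : Subgroup G) ≤ C := fun y hy => mem_cent_iff.mpr (hzt ▸ hzc y hy)
  have hdvd : Nat.card (P : Subgroup G) ∣ 48 := T.card_eq ▸ Subgroup.card_dvd_of_le hPC
  have hd16 : 16 ∣ Nat.card (P : Subgroup G) := by
    have := Subgroup.card_dvd_of_le hP
    rwa [hS'] at this
  obtain ⟨n, hn⟩ := P.isPGroup'.exists_card_eq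
  have hP16 : Nat.card (P : Subgroup G) = 16 := by
    rw [hn] at hdvd hd16 ⊢
    have : n < 6 := by
      by_contra h6
      have := Nat.le_of_dvd (by norm_num) hdvd
      have : 2 ^ 6 ≤ 2 ^ n := Nat.pow_le_pow_right (by norm_num) (by omega)
      omega
    interval_cases n <;> first | rfl | omega
  refine ⟨(P : Subgroup G).index, ?_, ?_⟩
  · rw [← Nat.not_even_iff_odd, even_iff_two_dvd]
    exact P.not_dvd_index
  · rw [← hP16, Subgroup.card_mul_index]

end Cfsg.Agent.GL23Cent
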