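/-
The possible orders of a group with an involution centralizer `GL(2,3)` whose non-trivial
irreducible characters do not contain the involution in their kernels.
-/
import Cfsg.Agent.Lib.GL23Cent.Order

set_option autoImplicit false

namespace Cfsg.Agent.GL23Cent

open Cfsg Cfsg.Agent.Char Cfsg.Agent.Coherence

variable {G : Type*} [Group G] [Fintype G] {t : G} (T : Table ↥(Subgroup.centralizer ({t} : Set G)))

attribute [local instance] centFintype

theorem signed_ne_at_t (hker : ∀ χ : G → ℂ, IsIrrCharacter G χ → χ ≠ 1 → χ t ≠ χ 1)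
    {S : G → ℂ} (hS : IsSignedIrr G S) (h1 : classInner S 1 = 0) : S t ≠ S 1 := by
  rcases hS with h | h
  · exact hker S h fun e => by rw [e, one_norm] at h1; exact one_ne_zero h1
  · intro he
    refine hker (-S) h (fun e => ?_) (by simp [he])
    rw [show S = -(1 : G → ℂ) by rw [← e, neg_neg], classInner_neg_left, one_norm] at h1
    norm_num at h1

theorem int_of_cast {a b : ℤ} (h : (a : ℂ) = b) : a = b := by exact_mod_cast h

include T in
theorem card_of_centralizer (ht : orderOf t = 2)
    (hker : ∀ χ : G → ℂ, IsIrrCharacter G χ → χ ≠ 1 → χ t ≠ χ 1) :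
    Nat.card G = 7920 ∨ Nat.card G = 5616 := by
  classical
  have : Fintype (IrrCharacter G) := Fintype.ofFinite _
  obtain ⟨o, ho, hg⟩ := card_eq_sixteen_mul T ht
  obtain ⟨R, Y, U, V, ⟨sR, oR, rA1, rB1, rB2, rA5, rA6⟩, ⟨sY, oY, yA1, yB1, yB2, yA5, yA6⟩,
    ⟨sU, oU, uA1, uB1, uB2, uA5, uA6⟩, ⟨sV, oV, vA1, vB1, vB2, vA5, vA6⟩, hA5, hA6⟩ :=
    (five T ht).decompose
  have cf : ∀ {S : G → ℂ}, IsSignedIrr G S → IsClassFunction G S := fun h =>
    isGC_isClassFunction (isGC_signed h)
  have vR : R t = 2 := by rw [value_t T ht (cf sR), rA1, rB1, rB2, rA5, rA6]; norm_num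
  have vY : Y t = -3 := by rw [value_t T ht (cf sY), yA1, yB1, yB2, yA5, yA6]; norm_num
  have vU : U t = 1 := by rw [value_t T ht (cf sU), uA1, uB1, uB2, uA5, uA6]; norm_num
  have vV : V t = -3 := by rw [value_t T ht (cf sV), vA1, vB1, vB2, vA5, vA6]; norm_num
  obtain ⟨D, hD0, hD⟩ := signed_degree sR
  obtain ⟨y, hy0, hy⟩ := signed_degree sY
  obtain ⟨u, hu0, hu⟩ := signed_degree sU
  obtain ⟨v, hv0, hv⟩ := signed_degree sV
  have hD2 : D ≠ 2 := fun e => signed_ne_at_t hker sR oR (by rw [vR, hD, e]; norm_num)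
  have hu1 : u ≠ 1 := fun e => signed_ne_at_t hker sU oU (by rw [vU, hu, e]; norm_num)
  have hyD : y = -1 - D := by
    have h := congrFun hA5 1
    rw [(five T ht).zA5] at h
    simp only [Pi.add_apply, Pi.one_apply, hD, hy] at h
    refine int_of_cast ?_
    push_cast; linear_combination -h
  have hvD : v = -D - u := by
    have h := congrFun hA6 1
    rw [(five T ht).zA6] at h
    simp only [Pi.add_apply, hD, hu, hv] at h
    refine int_of_cast ?_
    push_cast; linear_combination -h
  -- the congruence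
  obtain ⟨n, hn⟩ : ∃ n : ℤ, 8 * n = D + 6 := by
    obtain ⟨n, hn⟩ := classInner_gc_int
      (IsGeneralizedCharacter.restrict (isGC_signed sR) (Subgroup.centralizer ({t} : Set G))) T.gc_hh
    refine ⟨n, int_of_cast ?_⟩
    have e : classInner (fun x : Subgroup.centralizer ({t} : Set G) => R x) (T.F hh) =
        (6 * (D : ℂ) + 36) / 48 := by
      have h5 : classInner R (indFun _ (T.F a5)) = 1 := by simpa [five] using rA5
      have h6 : classInner R (indFun _ (T.F a6)) = 1 := by simpa [five] using rA6
      have ht' : R t = 4 * classInner R (indFun _ (T.F a1)) + 6 * classInner R (indFun _ (T.F b1)) +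
          2 * classInner R (indFun _ (T.F b2)) - 3 * classInner R (indFun _ (T.F a5)) -
          3 * classInner R (indFun _ (T.F a6)) := value_t T ht (cf sR)
      have key : ∀ x : Subgroup.centralizer ({t} : Set G), 48 * starRingEnd ℂ (T.F hh x) =
          (if T.φ x = k1 then 288 else 0) +
          6 * (4 * starRingEnd ℂ (T.F a1 x) + 6 * starRingEnd ℂ (T.F b1 x) +
            2 * starRingEnd ℂ (T.F b2 x) - 3 * starRingEnd ℂ (T.F a5 x) -
            3 * starRingEnd ℂ (T.F a6 x)) +
          36 * starRingEnd ℂ (T.F a5 x) - 12 * starRingEnd ℂ (T.F a6 x) := fun x => by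
        have h := congrArg (fun z => starRingEnd ℂ (ι z)) (ident_hh (T.φ x))
        simp only [map_sub, map_add, map_mul, map_ofNat, apply_ite ι, apply_ite (starRingEnd ℂ),
          map_zero] at h
        simp only [T.F_apply]
        linear_combination h
      rw [ht', frobenius_reciprocity' _ (T.F a1) (cf sR), frobenius_reciprocity' _ (T.F b1) (cf sR),
        frobenius_reciprocity' _ (T.F b2) (cf sR), frobenius_reciprocity' _ (T.F a5) (cf sR),
        frobenius_reciprocity' _ (T.F a6) (cf sR)] at ht'
      rw [frobenius_reciprocity' _ (T.F a5) (cf sR)] at h5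
      rw [frobenius_reciprocity' _ (T.F a6) (cf sR)] at h6
      have hsum : (48 : ℂ) * classInner (fun x : Subgroup.centralizer ({t} : Set G) => R x) (T.F hh) =
          (48 : ℂ)⁻¹ * (R 1 * 288) + 6 * R t +
          36 * classInner (fun x : Subgroup.centralizer ({t} : Set G) => R x) (T.F a5) -
          12 * classInner (fun x : Subgroup.centralizer ({t} : Set G) => R x) (T.F a6) := by
        rw [value_t T ht (cf sR)]
        show _ = (48 : ℂ)⁻¹ * (R 1 * 288) + 6 * (4 * classInner R (indFun _ (T.F a1)) +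
          6 * classInner R (indFun _ (T.F b1)) + 2 * classInner R (indFun _ (T.F b2)) -
          3 * classInner R (indFun _ (T.F a5)) - 3 * classInner R (indFun _ (T.F a6))) + _ - _
        rw [frobenius_reciprocity' _ (T.F a1) (cf sR), frobenius_reciprocity' _ (T.F b1) (cf sR),
          frobenius_reciprocity' _ (T.F b2) (cf sR), frobenius_reciprocity' _ (T.F a5) (cf sR),
          frobenius_reciprocity' _ (T.F a6) (cf sR)]
        have h1 := sum_ite_k1 T (fun x => R x) (288 : ℂ)
        simp only [OneMemClass.coe_one] at h1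
        rw [← h1]
        simp only [classInner, T.card_eq, Finset.mul_sum, ← Finset.sum_add_distrib,
          ← Finset.sum_sub_distrib]
        refine Finset.sum_congr rfl fun x _ => ?_
        push_cast
        linear_combination (48 : ℂ)⁻¹ * R x * key x
      rw [h5, h6, vR, hD] at hsum
      field_simp
      linear_combination hsum
    rw [e] at hn
    push_cast
    linear_combination -(8 : ℂ) * hn
  -- the two class equations
  have hL5 : L t (five T ht).A5 = 1 + 4 / (D : ℂ) + 9 / (y : ℂ) := by
    rw [hA5, L_add, L_add, L_signed signed_one, L_signed sR, L_signed sY, vR, vY, hD, hy]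
    simp; norm_num
  have hL6 : L t (five T ht).A6 = 4 / (D : ℂ) + 1 / (u : ℂ) + 9 / (v : ℂ) := by
    rw [hA6, L_add, L_add, L_signed sR, L_signed sU, L_signed sV, vR, vU, vV, hD, hu, hv]
    norm_num
  have hDc : (D : ℂ) ≠ 0 := Int.cast_ne_zero.mpr hD0
  have hyc : (y : ℂ) ≠ 0 := Int.cast_ne_zero.mpr hy0
  have huc : (u : ℂ) ≠ 0 := Int.cast_ne_zero.mpr hu0
  have hvc : (v : ℂ) ≠ 0 := Int.cast_ne_zero.mpr hv0
  have hgc : ((Nat.card G : ℤ) : ℂ) ≠ 0 := by
    simpa using (Nat.card_pos (α := G)).ne'
  rcases refl_all_or_none T with hK | hK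
  swap
  · exfalso
    have h := L_ind T ht a5 0 (fun x hx => by
      rw [((count T ht x (Or.inl hx)).2 hK)]; simp) sum_cnt.1
    change L t (five T ht).A5 = _ at h
    rw [hL5] at h
    simp only [zero_mul, zero_div] at h
    field_simp at h
    have h' : D * y + 4 * y + D * 9 = 0 := int_of_cast (by push_cast; linear_combination h)
    rw [hyD] at h'
    have : (D - 2) ^ 2 = 0 := by linear_combination -h'
    exact hD2 (sub_eq_zero.mp (pow_eq_zero_iff two_ne_zero |>.mp this))
  have e5 := L_ind T ht a5 1 (fun x hx => by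
    rw [((count T ht x (Or.inl hx)).1 hK), one_mul]) sum_cnt.1
  have e6 := L_ind T ht a6 1 (fun x hx => by
    rw [((count T ht x (Or.inr hx)).1 hK), one_mul]) sum_cnt.2
  change L t (five T ht).A5 = _ at e5
  change L t (five T ht).A6 = _ at e6
  rw [hL5, one_mul] at e5
  rw [hL6, one_mul] at e6
  have hgN : (Nat.card G : ℂ) ≠ 0 := Nat.cast_ne_zero.2 Nat.card_pos.ne'
  field_simp at e5 e6
  set g : ℤ := (Nat.card G : ℤ) with hgdef
  have E5 : (D * y + 4 * y + D * 9) * g = 4608 * D * y := int_of_cast (by
    rw [hgdef]; push_cast; linear_combination e5)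
  have E6 : (4 * u * v + D * v + D * u * 9) * g = 4608 * D * u * v := int_of_cast (by
    rw [hgdef]; push_cast; linear_combination e6)
  have hgo : g = 16 * (o : ℤ) := by rw [hgdef, hg]; push_cast; rfl
  -- `D = 2 + 8m`
  obtain ⟨m, rfl⟩ : ∃ m : ℤ, D = 2 + 8 * m := ⟨n - 1, by omega⟩
  rw [hyD, hgo] at E5
  have Eo : (o : ℤ) * m ^ 2 = 9 * (4 * m + 1) * (8 * m + 3) := by
    have : 1024 * ((o : ℤ) * m ^ 2) = 1024 * (9 * (4 * m + 1) * (8 * m + 3)) := by
      linear_combination -E5
    linarith
  have hm0 : m ≠ 0 := by rintro rfl; omega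
  have hodd : Odd m := by
    by_contra hm
    rw [Int.not_odd_iff_even] at hm
    obtain ⟨k, rfl⟩ := hm
    have : 2 * (2 * (o : ℤ) * k ^ 2) = 2 * (576 * k ^ 2 + 180 * k + 13) + 1 := by
      linear_combination Eo
    omega
  have hdvd : m ∣ 27 := ⟨(o : ℤ) * m - 288 * m - 180, by linear_combination -Eo⟩
  have hm27 : m.natAbs ∈ Nat.divisors 27 :=
    Nat.mem_divisors.mpr ⟨Int.natCast_dvd_natCast.mp (by simpa using hdvd), by norm_num⟩
  rw [show Nat.divisors 27 = {1, 3, 9, 27} by decide] at hm27
  simp only [Finset.mem_insert, Finset.mem_singleton] at hm27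
  rcases hm27 with h | h | h | h <;> rcases Int.natAbs_eq m with e | e <;> rw [h] at e <;>
    subst e <;> norm_num at Eo <;> try omega
  · exfalso
    obtain rfl : v = 6 - u := by omega
    rw [show g = 2160 by omega] at E6
    have : (5184 : ℤ) * ((u - 1) * (7 * u - 15)) = 0 := by linear_combination -E6
    rcases mul_eq_zero.mp (mul_eq_zero.mp this |>.resolve_left (by norm_num)) with h | h <;> omega
  · exfalso
    obtain rfl : v = 22 - u := by omega
    rw [show g = 3696 by omega] at E6
    have : (11616 : ℤ) * ((u - 1) * (10 * u - 154)) = 0 := by linear_combination -E6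
    rcases mul_eq_zero.mp (mul_eq_zero.mp this |>.resolve_left (by norm_num)) with h | h <;> omega

end Cfsg.Agent.GL23Cent
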