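/-
A nontrivial irreducible character of a simple group is faithful.
-/
import Cfsg.Agent.Lib.GL23Cent.Main
import Cfsg.Agent.Lib.Codegree.Basic

set_option autoImplicit false

namespace Cfsg.Agent.GL23Cent

open Cfsg Cfsg.Agent.Char

theorem ne_at_of_simple {G : Type*} [Group G] [Fintype G] [IsSimpleGroup G] {t : G} (ht : t ≠ 1)
    {χ : G → ℂ} (hχ : IsIrrCharacter G χ) (h1 : χ ≠ 1) : χ t ≠ χ 1 := by
  intro h
  let c : IrrCharacter G := ⟨χ, hχ⟩
  rcases (Codegree.kerSub_normal c).eq_bot_or_eq_top with hb | htop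
  · exact ht (by simpa [hb] using (Codegree.mem_kerSub.mpr h : t ∈ Codegree.kerSub c))
  · have e : χ = χ 1 • (1 : G → ℂ) := funext fun g => by
      have : g ∈ Codegree.kerSub c := htop ▸ Subgroup.mem_top g
      simpa [c] using Codegree.mem_kerSub.mp this
    have h0 := classInner_irr_of_ne hχ isIrrCharacter_one h1
    rw [e, classInner_smul_left, classInner_irr_self isIrrCharacter_one, mul_one] at h0
    exact IsIrrCharacter.apply_one_ne_zero hχ h0

theorem card_of_simple {G : Type*} [Group G] [Finite G] [IsSimpleGroup G] (t : G)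
    (ht : orderOf t = 2)
    (e : Subgroup.centralizer ({t} : Set G) ≃* Matrix.GeneralLinearGroup (Fin 2) (ZMod 3)) :
    Nat.card G = 7920 ∨ Nat.card G = 5616 := by
  have := Fintype.ofFinite G
  exact card_of_centralizer (Table.ofEquiv e) ht fun χ hχ h1 =>
    ne_at_of_simple (fun h => by rw [h, orderOf_one] at ht; omega) hχ h1

end Cfsg.Agent.GL23Cent
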